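import Mathlib.RingTheory.RootsOfUnity.PrimitiveRoots
import Mathlib.LinearAlgebra.Matrix.Determinant.Basic
import Mathlib.LinearAlgebra.Matrix.Notation
import Mathlib.Tactic.NoncommRing
import Mathlib.Tactic.LinearCombination
import Mathlib.Tactic.FinCases
import Mathlib.Tactic.Module
import Cfsg.Agent.TO.Blk_m3
import Cfsg.Agent.TO.FO.Box
import Cfsg.Agent.TO.Rows_m3
import Cfsg.Agent.S0248
import Cfsg.Agent.H95.StemCover
import Cfsg.Agent.H771.KTools_m3
import Cfsg.Agent.H199.PslAut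
import Cfsg.Agent.S0249
import Cfsg.Agent.S0265
import Cfsg.Agent.S0813
import Cfsg.Agent.S2086
import Cfsg.Agent.FastGrp
import Cfsg.Agent.Prune
set_option linter.all false
prune_inst 0x7ffdacfffbf9bfdfdfff7e77aedcdffdf9a96fffefdff9cbffe46bdf1fdf4b02cde5f38d8bea10fe1ef7429410e87bc3fffffeffea6ffc7ffffdfff45ffbff8ffdf7bd08519488340fb82ffe63f0778e7f3fffffffffffffffffffffffffffbeffffffffffff
open scoped Cfsg.Agent.FastGrp

-- part: TO/L2/Alg
section
/-!
# The algebra spanned by a Heisenberg pair is `M₃(F)`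
-/

set_option autoImplicit false

namespace Cfsg.Agent.TO.L2

open Matrix

variable {F : Type*} [Field F] {R : Type*} [Ring R] [Algebra F R]

/-- a Heisenberg pair in an algebra -/
structure Hs (a b : R) (ω : F) : Prop where
  prim : IsPrimitiveRoot ω 3
  a3 : a ^ 3 = 1
  b3 : b ^ 3 = 1
  comm : a * b = ω • (b * a)

variable (F) in
/-- the projection onto the fixed space of `a` -/
def e (a : R) : R := (3 : F)⁻¹ • (1 + a + a * a)

variable (F) in
/-- `b ^ i e` -/
def V (a b : R) : Fin 3 → R := ![e F a, b * e F a, b * b * e F a]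

variable (F) in
/-- `e b ^ (-i)` -/
def U (a b : R) : Fin 3 → R := ![e F a, e F a * (b * b), e F a * b]

/-- the embedding of `M₃(F)` -/
def psi (a b : R) (y : Matrix (Fin 3) (Fin 3) F) : R := ∑ i, ∑ j, y i j • (V F a b i * U F a b j)

variable (F) in
/-- the diagonal extension of an endomorphism of the fixed space -/
def hat (a b : R) (N : R) : R := ∑ i, V F a b i * N * U F a b i

variable (F) in
/-- the blocks -/
def blk (a b : R) (k : R) (i j : Fin 3) : R := U F a b i * k * V F a b j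

/-- the matrix of `a` -/
def mA (ω : F) : Matrix (Fin 3) (Fin 3) F := !![1, 0, 0; 0, ω, 0; 0, 0, ω ^ 2]

variable (F) in
/-- the matrix of `b` -/
def mB : Matrix (Fin 3) (Fin 3) F := !![0, 0, 1; 1, 0, 0; 0, 1, 0]

/-- the Fourier matrix -/
def P1 (ω : F) : Matrix (Fin 3) (Fin 3) F := !![1, 1, 1; 1, ω, ω ^ 2; 1, ω ^ 2, ω]

/-- its conjugate by `diag(1, 1, ω)` -/
def P2 (ω : F) : Matrix (Fin 3) (Fin 3) F := !![1, 1, ω ^ 2; 1, ω, ω; ω, 1, ω]

section Root

variable {ω : F}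

theorem w3 (h : IsPrimitiveRoot ω 3) : ω ^ 3 = 1 := h.pow_eq_one

theorem w1 (h : IsPrimitiveRoot ω 3) : ω ≠ 1 := h.ne_one (by norm_num)

theorem wsum (h : IsPrimitiveRoot ω 3) : 1 + ω + ω ^ 2 = 0 := by
  have h1 : (ω - 1) * (1 + ω + ω ^ 2) = 0 := by linear_combination w3 h
  exact (mul_eq_zero.1 h1).resolve_left (sub_ne_zero.2 (w1 h))

theorem three_ne (h : IsPrimitiveRoot ω 3) : (3 : F) ≠ 0 := by
  intro h3
  have h1 : (ω - 1) ^ 2 = 0 := by linear_combination wsum h - ω * h3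
  exact w1 h (sub_eq_zero.1 (pow_eq_zero_iff (by norm_num) |>.1 h1))

theorem w0 (h : IsPrimitiveRoot ω 3) : ω ≠ 0 := h.ne_zero (by norm_num)

theorem wsub (h : IsPrimitiveRoot ω 3) : ω - ω ^ 2 ≠ 0 := by
  intro h0
  apply three_ne h
  linear_combination (-(ω - ω ^ 2)) * h0 + (ω - 2) * w3 h + wsum h

theorem cube_root (h : IsPrimitiveRoot ω 3) {s : F} (hs : s ^ 3 = 1) : s = 1 ∨ s = ω ∨ s = ω ^ 2 := by
  have h1 : (s - 1) * ((s - ω) * (s - ω ^ 2)) = 0 := by
    linear_combination hs + (s - 1) * w3 h - (s - 1) * s * wsum h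
  rcases mul_eq_zero.1 h1 with h2 | h2
  · exact Or.inl (sub_eq_zero.1 h2)
  · rcases mul_eq_zero.1 h2 with h3 | h3
    · exact Or.inr (Or.inl (sub_eq_zero.1 h3))
    · exact Or.inr (Or.inr (sub_eq_zero.1 h3))

theorem det_mA (h : IsPrimitiveRoot ω 3) : (mA ω).det = 1 := by
  rw [mA, det_fin_three]
  simp only [_root_.Fin.isValue, _root_.Matrix.of_apply, _root_.Matrix.cons_val', _root_.Matrix.cons_val_zero, _root_.Matrix.cons_val_fin_one, _root_.Matrix.cons_val_one, _root_.one_mul, _root_.Matrix.cons_val, _root_.MulZeroClass.mul_zero, _root_.sub_zero, _root_.MulZeroClass.zero_mul, _root_.add_zero]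
  linear_combination w3 h

theorem det_mB : (mB F).det = 1 := by
  rw [mB, det_fin_three]
  simp

theorem det_P1 (h : IsPrimitiveRoot ω 3) : ((ω - ω ^ 2)⁻¹ • P1 ω).det = 1 := by
  have h1 : (P1 ω).det = (ω - ω ^ 2) ^ 3 := by
    rw [P1, det_fin_three]
    simp only [_root_.Fin.isValue, _root_.Matrix.of_apply, _root_.Matrix.cons_val', _root_.Matrix.cons_val_zero, _root_.Matrix.cons_val_fin_one, _root_.Matrix.cons_val_one, _root_.one_mul, _root_.Matrix.cons_val, _root_.mul_one]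
    linear_combination (ω ^ 3 - 3 * ω ^ 2 + 2 * ω) * w3 h
  rw [det_smul, h1, Fintype.card_fin, ← mul_pow, inv_mul_cancel₀ (wsub h), one_pow]

theorem det_P2 (h : IsPrimitiveRoot ω 3) : ((ω - ω ^ 2)⁻¹ • P2 ω).det = 1 := by
  have h1 : (P2 ω).det = (ω - ω ^ 2) ^ 3 := by
    rw [P2, det_fin_three]
    simp only [_root_.Fin.isValue, _root_.Matrix.of_apply, _root_.Matrix.cons_val', _root_.Matrix.cons_val_zero, _root_.Matrix.cons_val_fin_one, _root_.Matrix.cons_val_one, _root_.one_mul, _root_.Matrix.cons_val, _root_.mul_one]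
    linear_combination (ω ^ 3 - 3 * ω ^ 2 + 2 * ω) * w3 h
  rw [det_smul, h1, Fintype.card_fin, ← mul_pow, inv_mul_cancel₀ (wsub h), one_pow]

theorem P1_mA (h : IsPrimitiveRoot ω 3) : P1 ω * mA ω = mB F * mB F * P1 ω := by
  ext i j
  (revert i j; simp only [P1, mA, mB, Matrix.mul_apply, Fin.sum_univ_three, _root_.Fin.forall_fin_succ, _root_.Matrix.of_apply, _root_.Matrix.cons_val', _root_.Matrix.cons_val_fin_one, Fin.isValue, _root_.Matrix.cons_val_zero, _root_.Matrix.cons_val_one, _root_.Matrix.cons_val, _root_.Matrix.cons_mul, _root_.Nat.succ_eq_add_one, Nat.reduceAdd, _root_.Matrix.vecMul_cons, _root_.Matrix.head_cons, _root_.zero_smul, _root_.Matrix.tail_cons, _root_.one_smul, _root_.Matrix.empty_vecMul, _root_.add_zero, _root_.zero_add, _root_.Matrix.empty_mul, _root_.Equiv.symm_apply_apply, _root_.mul_one, _root_.MulZeroClass.mul_zero, _root_.Matrix.cons_val_succ, _root_.forall_const, _root_.one_mul, _root_.MulZeroClass.zero_mul,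 _root_.and_true, _root_.true_and]) <;> (repeat' with_reducible apply And.intro)
  map_tacs [(ring1); (linear_combination ω * w3 h); (linear_combination w3 h); (linear_combination w3 h)]

theorem P1_mB (h : IsPrimitiveRoot ω 3) : P1 ω * mB F = mA ω * P1 ω := by
  ext i j
  (revert i j; simp only [P1, mA, mB, Matrix.mul_apply, Fin.sum_univ_three, _root_.Fin.forall_fin_succ, _root_.Matrix.of_apply, _root_.Matrix.cons_val', _root_.Matrix.cons_val_fin_one, Fin.isValue, _root_.Matrix.cons_val_zero, _root_.Matrix.cons_val_one, _root_.Matrix.cons_val, _root_.MulZeroClass.mul_zero, _root_.mul_one, _root_.zero_add, _root_.add_zero, _root_.Matrix.cons_val_succ, _root_.forall_const, _root_.MulZeroClass.zero_mul, _root_.and_true, _root_.true_and]) <;> (repeat' with_reducible apply And.intro)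
  map_tacs [(ring1); (linear_combination -w3 h); (linear_combination -ω * w3 h); (linear_combination -w3 h)]

theorem P2_mA (h : IsPrimitiveRoot ω 3) : P2 ω * mA ω = mA ω * mA ω * (mB F * mB F) * P2 ω := by
  ext i j
  (revert i j; simp only [P2, mA, mB, Matrix.mul_apply, Fin.sum_univ_three, _root_.Fin.forall_fin_succ, _root_.Matrix.of_apply, _root_.Matrix.cons_val', _root_.Matrix.cons_val_fin_one, Fin.isValue, _root_.Matrix.cons_val_zero, _root_.Matrix.cons_val_one, _root_.Matrix.cons_val, _root_.Matrix.cons_mul, _root_.Nat.succ_eq_add_one, Nat.reduceAdd, _root_.Matrix.vecMul_cons, _root_.Matrix.head_cons, _root_.one_smul, _root_.Matrix.tail_cons, _root_.zero_smul, _root_.Matrix.empty_vecMul, _root_.add_zero, _root_.Matrix.smul_cons, _root_.smul_eq_mul, _root_.MulZeroClass.mul_zero, _root_.Matrix.smul_empty, _root_.zero_add, _root_.Matrix.empty_mul, _root_.Equiv.symm_apply_apply, _root_.mul_one, _root_.Matrix.cons_val_succ, _root_.forall_const,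 _root_.MulZeroClass.zero_mul, _root_.one_mul, _root_.mul_eq_mul_right_iff, _root_.ne_eq, _root_.OfNat.ofNat_ne_zero, _root_.not_false_eq_true, _root_.pow_eq_zero_iff, _root_.and_true, _root_.true_and]) <;> (repeat' with_reducible apply And.intro)
  map_tacs [(linear_combination ω * w3 h); (linear_combination -w3 h); (ring1); (linear_combination -ω * w3 h); (linear_combination -ω * w3 h);
   ((left; linear_combination -ω * w3 h))]

theorem P2_mB (h : IsPrimitiveRoot ω 3) : P2 ω * mB F = ω ^ 2 • (mA ω * mA ω * mB F * P2 ω) := by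
  ext i j
  (revert i j; simp only [P2, mA, mB, Matrix.mul_apply, Fin.sum_univ_three, _root_.Fin.forall_fin_succ, _root_.Matrix.of_apply, _root_.Matrix.cons_val', _root_.Matrix.cons_val_fin_one, Fin.isValue, _root_.Matrix.cons_val_zero, _root_.Matrix.cons_val_one, _root_.Matrix.cons_val, _root_.Matrix.cons_mul, _root_.Nat.succ_eq_add_one, Nat.reduceAdd, _root_.Matrix.vecMul_cons, _root_.Matrix.head_cons, _root_.one_smul, _root_.Matrix.tail_cons, _root_.zero_smul, _root_.Matrix.empty_vecMul, _root_.add_zero, _root_.Matrix.smul_cons, _root_.smul_eq_mul, _root_.MulZeroClass.mul_zero, _root_.Matrix.smul_empty, _root_.zero_add, _root_.Matrix.empty_mul, _root_.Equiv.symm_apply_apply, _root_.mul_one, _root_.Matrix.smul_apply, _root_.Matrix.cons_val_succ, _root_.forall_const, _root_.and_true, _root_.true_and]) <;> (repeat' with_reducible apply And.intro)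
  map_tacs [(linear_combination -w3 h); (linear_combination -w3 h); (linear_combination -ω * w3 h); (linear_combination -ω * w3 h);
   (linear_combination -(ω ^ 3 + 1) * w3 h); (linear_combination -(ω ^ 3 + 1) * w3 h); (linear_combination -ω * (ω ^ 3 + 1) * w3 h);
   (linear_combination -ω * (ω ^ 3 + 1) * w3 h)]

end Root

namespace Hs

variable {a b : R} {ω : F}

theorem aaa (h : Hs a b ω) : a * a * a = 1 := by rw [← h.a3, pow_succ, pow_two]

theorem bbb (h : Hs a b ω) : b * b * b = 1 := by rw [← h.b3, pow_succ, pow_two]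

theorem a_e (h : Hs a b ω) : a * e F a = e F a := by
  rw [e, mul_smul_comm, mul_add, mul_add, ← mul_assoc, h.aaa, mul_one]
  congr 1
  abel

/-- the projection on an eigenvector of left multiplication -/
theorem e_mul (x : R) (s : F) (hx : a * x = s • x) : e F a * x = ((3 : F)⁻¹ * (1 + s + s ^ 2)) • x := by
  rw [e, smul_mul_assoc, add_mul, add_mul, mul_assoc, hx, mul_smul_comm, hx, one_mul, mul_smul, smul_smul]
  congr 1
  module

theorem e_fix (h : Hs a b ω) {x : R} (hx : a * x = x) : e F a * x = x := by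
  rw [e_mul x (1 : F) (by rw [hx, one_smul])]
  have : (3 : F)⁻¹ * (1 + 1 + 1 ^ 2) = 1 := by
    have := three_ne h.prim
    field_simp
    norm_num
  rw [this, one_smul]

theorem e_e (h : Hs a b ω) : e F a * e F a = e F a := h.e_fix h.a_e

theorem a_V (h : Hs a b ω) (i : Fin 3) : a * V F a b i = ω ^ (i : ℕ) • V F a b i := by
  have h1 : a * (b * e F a) = ω • (b * e F a) := by
    rw [← mul_assoc, h.comm, smul_mul_assoc, mul_assoc, h.a_e]
  fin_cases i
  · simp [V, h.a_e]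
  · simp [V, h1]
  · simp only [V, mul_assoc]
    change a * (b * (b * e F a)) = ω ^ 2 • (b * (b * e F a))
    rw [← mul_assoc, h.comm, smul_mul_assoc, mul_assoc, h1, mul_smul_comm, smul_smul, pow_two]

theorem ebe (h : Hs a b ω) : e F a * (b * e F a) = 0 := by
  have h1 := e_mul _ _ (h.a_V 1)
  have h2 : 1 + ω ^ ((1 : Fin 3) : ℕ) + (ω ^ ((1 : Fin 3) : ℕ)) ^ 2 = 0 := by simpa only [_root_.Fin.isValue, _root_.Fin.coe_ofNat_eq_mod, _root_.Nat.one_mod, _root_.pow_one] using wsum h.prim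
  rw [h2, mul_zero, zero_smul] at h1
  exact h1

theorem ebbe (h : Hs a b ω) : e F a * (b * (b * e F a)) = 0 := by
  have h1 := e_mul _ _ (h.a_V 2)
  have h2 : 1 + ω ^ ((2 : Fin 3) : ℕ) + (ω ^ ((2 : Fin 3) : ℕ)) ^ 2 = 0 := by
    change 1 + ω ^ 2 + (ω ^ 2) ^ 2 = 0
    linear_combination wsum h.prim + ω * w3 h.prim
  rw [h2, mul_zero, zero_smul] at h1
  rw [← mul_assoc b]
  exact h1

theorem bbb' (h : Hs a b ω) (x : R) : b * (b * (b * x)) = x := by
  rw [← mul_assoc, ← mul_assoc, h.bbb, one_mul]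

theorem U_V (h : Hs a b ω) (i j : Fin 3) : U F a b i * V F a b j = if i = j then e F a else 0 := by
  (revert i j; simp only [U, V, mul_assoc, h.bbb', h.e_e, h.ebe, h.ebbe, _root_.Fin.forall_fin_succ, Fin.isValue, _root_.Matrix.cons_val_zero, _root_.Matrix.cons_val_succ, _root_.Fin.succ_zero_eq_one, _root_.Matrix.cons_val_fin_one, _root_.Fin.succ_one_eq_two, _root_.IsEmpty.forall_iff, _root_.and_true, ↓reduceIte, _root_.zero_ne_one, Fin.reduceEq, _root_.and_self, _root_.Fin.succ_ne_zero, _root_.right_eq_ite_iff, _root_.left_eq_ite_iff, _root_.true_and, _root_.not_true_eq_false])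

theorem sum_VU (h : Hs a b ω) : ∑ i, V F a b i * U F a b i = 1 := by
  have hba : b * a = ω ^ 2 • (a * b) := by
    rw [h.comm, smul_smul, ← pow_succ, w3 h.prim, one_smul]
  have hba' : ∀ x, b * (a * x) = ω ^ 2 • (a * (b * x)) := fun x => by
    rw [← mul_assoc, hba, smul_mul_assoc, mul_assoc]
  have hb : b * (b * b) = 1 := by rw [← mul_assoc, h.bbb]
  have h1 : ∑ i, V F a b i * U F a b i = e F a + b * (e F a * (b * b)) + b * (b * (e F a * b)) := by
    have he : ∀ x, e F a * (e F a * x) = e F a * x := fun x => by rw [← mul_assoc, h.e_e]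
    simp [Fin.sum_univ_three, U, V, mul_assoc, he, h.e_e]
  rw [h1, e]
  simp only [smul_mul_assoc, mul_smul_comm, add_mul, mul_add, one_mul, mul_assoc, hba', hb, mul_one, smul_add,
    smul_smul]
  have h3 := three_ne h.prim
  have hw := w3 h.prim
  have hs := wsum h.prim
  match_scalars
  · field_simp
    norm_num
  · linear_combination (3 : F)⁻¹ * hs + (3 : F)⁻¹ * ω * hw
  · linear_combination (3 : F)⁻¹ * hs + (3 : F)⁻¹ * (ω + ω ^ 2 * (ω ^ 3 + 1)) * hw

theorem V_e (h : Hs a b ω) (i : Fin 3) : V F a b i * e F a = V F a b i := by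
  fin_cases i <;> simp [V, mul_assoc, h.e_e]

theorem e_U (h : Hs a b ω) (i : Fin 3) : e F a * U F a b i = U F a b i := by
  fin_cases i <;> simp [U, ← mul_assoc, h.e_e]

theorem b_V (h : Hs a b ω) (i : Fin 3) : b * V F a b i = V F a b (i + 1) := by
  fin_cases i <;> simp [V, mul_assoc, h.bbb']

theorem ext_V (h : Hs a b ω) {x y : R} (hxy : ∀ j, x * V F a b j = y * V F a b j) : x = y := by
  rw [← mul_one x, ← mul_one y, ← h.sum_VU, Finset.mul_sum, Finset.mul_sum]
  exact Finset.sum_congr rfl fun j _ => by rw [← mul_assoc, hxy, mul_assoc]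

theorem psi_V (h : Hs a b ω) (y : Matrix (Fin 3) (Fin 3) F) (j : Fin 3) :
    psi a b y * V F a b j = ∑ i, y i j • V F a b i := by
  rw [psi, Finset.sum_mul]
  refine Finset.sum_congr rfl fun i _ => ?_
  rw [Finset.sum_mul]
  simp only [smul_mul_assoc, mul_assoc, h.U_V, mul_ite, mul_zero, smul_ite, smul_zero, Finset.sum_ite_eq',
    Finset.mem_univ, if_true, h.V_e]

theorem psi_one (h : Hs a b ω) : psi a b (1 : Matrix (Fin 3) (Fin 3) F) = 1 :=
  h.ext_V fun j => by simp [h.psi_V, Matrix.one_apply]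

theorem psi_mul (h : Hs a b ω) (y y' : Matrix (Fin 3) (Fin 3) F) : psi a b (y * y') = psi a b y * psi a b y' :=
  h.ext_V fun j => by
    simp only [mul_assoc, h.psi_V, Finset.mul_sum, mul_smul_comm, Matrix.mul_apply, Finset.sum_smul, Finset.smul_sum,
      smul_smul]
    rw [Finset.sum_comm]
    exact Finset.sum_congr rfl fun i _ => Finset.sum_congr rfl fun k _ => by rw [mul_comm]

omit a b ω in
theorem _root_.Cfsg.Agent.TO.L2.psi_smul (a b : R) (s : F) (y : Matrix (Fin 3) (Fin 3) F) :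
    psi a b (s • y) = s • psi a b y := by
  simp only [psi, Finset.smul_sum, Matrix.smul_apply, smul_eq_mul, mul_smul]

omit a b ω in
theorem _root_.Cfsg.Agent.TO.L2.psi_add (a b : R) (y y' : Matrix (Fin 3) (Fin 3) F) :
    psi a b (y + y') = psi a b y + psi a b y' := by
  simp only [psi, Matrix.add_apply, add_smul, Finset.sum_add_distrib]

/-- the embedding as an algebra homomorphism -/
def psiH (h : Hs a b ω) : Matrix (Fin 3) (Fin 3) F →ₐ[F] R :=
  AlgHom.ofLinearMap { toFun := psi a b, map_add' := psi_add a b, map_smul' := psi_smul a b } h.psi_one h.psi_mul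

theorem psiH_apply (h : Hs a b ω) (y : Matrix (Fin 3) (Fin 3) F) : h.psiH y = psi a b y := rfl

theorem blk_psi (h : Hs a b ω) (y : Matrix (Fin 3) (Fin 3) F) (i j : Fin 3) :
    blk F a b (psi a b y) i j = y i j • e F a := by
  simp [blk, mul_assoc, h.psi_V, Finset.mul_sum, h.U_V]

theorem e_ne [Nontrivial R] (h : Hs a b ω) : e F a ≠ 0 := by
  intro h0
  have h1 := h.sum_VU
  simp [V, h0, Fin.sum_univ_three] at h1

theorem psi_inj [Nontrivial R] (h : Hs a b ω) : Function.Injective (psi a b : Matrix (Fin 3) (Fin 3) F → R) := by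
  intro y y' hy
  ext i j
  have h1 := h.blk_psi y i j
  rw [hy, h.blk_psi] at h1
  exact (smul_left_injective F h.e_ne h1).symm

theorem psi_mA (h : Hs a b ω) : psi a b (mA ω) = a :=
  h.ext_V fun j => by
    rw [h.psi_V, h.a_V]
    fin_cases j <;> simp [mA, Fin.sum_univ_three]

theorem psi_mB (h : Hs a b ω) : psi a b (mB F) = b :=
  h.ext_V fun j => by
    rw [h.psi_V, h.b_V]
    (revert j; simp only [mB, Fin.sum_univ_three, _root_.Fin.forall_fin_succ, _root_.Matrix.of_apply, _root_.Matrix.cons_val', _root_.Matrix.cons_val_fin_one, Fin.isValue, _root_.Matrix.cons_val_zero, _root_.Matrix.cons_val_one, _root_.Matrix.cons_val, _root_.zero_smul, _root_.one_smul, _root_.zero_add, _root_.add_zero, _root_.Matrix.cons_val_succ, _root_.Fin.succ_zero_eq_one, Fin.reduceAdd, _root_.Fin.succ_one_eq_two, _root_.IsEmpty.forall_iff, _root_.and_self])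

theorem psi_scalar (h : Hs a b ω) (s : F) : psi a b (s • (1 : Matrix (Fin 3) (Fin 3) F)) = s • (1 : R) := by
  rw [psi_smul, h.psi_one]

/-- the centralizer of the pair centralizes the algebra -/
theorem comm_psi {c : R} (ha : c * a = a * c) (hb : c * b = b * c) (y : Matrix (Fin 3) (Fin 3) F) :
    c * psi a b y = psi a b y * c := by
  have ha' : Commute c a := ha
  have hb' : Commute c b := hb
  have he : Commute c (e F a) :=
    (((Commute.one_right c).add_right ha').add_right (ha'.mul_right ha')).smul_right _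
  have hV : ∀ i, Commute c (V F a b i) := fun i => by
    fin_cases i
    exacts [he, hb'.mul_right he, (hb'.mul_right hb').mul_right he]
  have hU : ∀ i, Commute c (U F a b i) := fun i => by
    fin_cases i
    exacts [he, he.mul_right (hb'.mul_right hb'), he.mul_right hb']
  exact Commute.sum_right _ _ _ fun i _ => Commute.sum_right _ _ _ fun j _ => ((hV i).mul_right (hU j)).smul_right _

/-- an element of the algebra which commutes with the pair is a scalar -/
theorem scalar_of_comm [Nontrivial R] (h : Hs a b ω) {y : Matrix (Fin 3) (Fin 3) F}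
    (ha : psi a b y * a = a * psi a b y) (hb : psi a b y * b = b * psi a b y) : ∃ s : F, y = s • 1 := by
  have h1 : ∀ y', y * y' = y' * y := fun y' => h.psi_inj (by rw [h.psi_mul, h.psi_mul, comm_psi ha hb])
  obtain ⟨s, hs⟩ := Matrix.mem_range_scalar_of_commute_single (M := y) fun i j _ => (h1 _).symm
  exact ⟨s, by rw [← hs, Matrix.scalar_apply, Matrix.smul_one_eq_diagonal]⟩

theorem mem_of_blocks (h : Hs a b ω) {k : R} (hk : ∀ i j, ∃ s : F, blk F a b k i j = s • e F a) :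
    ∃ y : Matrix (Fin 3) (Fin 3) F, k = psi a b y := by
  choose y hy using hk
  refine ⟨Matrix.of y, h.ext_V fun j => ?_⟩
  rw [h.psi_V, ← one_mul (k * _), ← h.sum_VU, Finset.sum_mul]
  refine Finset.sum_congr rfl fun i _ => ?_
  have h1 := hy i j
  rw [blk, mul_assoc] at h1
  rw [mul_assoc, h1, mul_smul_comm, h.V_e, Matrix.of_apply]

theorem e_blk (h : Hs a b ω) (k : R) (i j : Fin 3) : e F a * blk F a b k i j = blk F a b k i j := by
  rw [blk, ← mul_assoc, ← mul_assoc, h.e_U]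

theorem blk_e (h : Hs a b ω) (k : R) (i j : Fin 3) : blk F a b k i j * e F a = blk F a b k i j := by
  rw [blk, mul_assoc, h.V_e]

theorem hat_V (h : Hs a b ω) (N : R) (j : Fin 3) : hat F a b N * V F a b j = V F a b j * (N * e F a) := by
  simp [hat, Finset.sum_mul, mul_assoc, h.U_V]

theorem U_hat (h : Hs a b ω) (N : R) (i : Fin 3) : U F a b i * hat F a b N = e F a * N * U F a b i := by
  simp [hat, Finset.mul_sum, ← mul_assoc, h.U_V]

theorem hat_a (h : Hs a b ω) (N : R) : hat F a b N * a = a * hat F a b N :=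
  h.ext_V fun j => by
    rw [mul_assoc, mul_assoc, h.a_V, mul_smul_comm, h.hat_V, ← mul_assoc a, h.a_V, smul_mul_assoc]

theorem hat_b (h : Hs a b ω) (N : R) : hat F a b N * b = b * hat F a b N :=
  h.ext_V fun j => by rw [mul_assoc, mul_assoc, h.b_V, h.hat_V, h.hat_V, ← mul_assoc b, h.b_V]

theorem hat_mul (h : Hs a b ω) (N N' : R) : hat F a b N * hat F a b N' = hat F a b (N * e F a * N') :=
  h.ext_V fun j => by
    rw [mul_assoc, h.hat_V, ← mul_assoc, h.hat_V, h.hat_V]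
    simp only [mul_assoc]

theorem hat_zero : hat F a b 0 = 0 := by simp [hat]

/-- the blocks of an element which commutes with `hat N` commute with `N` -/
theorem blk_comm (h : Hs a b ω) {k N : R} (h1 : e F a * N = N) (h2 : N * e F a = N)
    (hk : k * hat F a b N = hat F a b N * k) (i j : Fin 3) : blk F a b k i j * N = N * blk F a b k i j := by
  have h3 : U F a b i * (k * hat F a b N) * V F a b j = U F a b i * (hat F a b N * k) * V F a b j := by rw [hk]
  rw [mul_assoc, mul_assoc, h.hat_V, h2, ← mul_assoc (U F a b i) (hat F a b N), h.U_hat, h1] at h3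
  simp only [blk, mul_assoc] at h3 ⊢
  exact h3

end Hs

end Cfsg.Agent.TO.L2
end

-- part: TO/L2/Heis
section
/-!
# Heisenberg pairs above a central quotient
-/

set_option autoImplicit false
set_option linter.unusedSectionVars false

namespace Cfsg.Agent.TO.L2

open Cfsg Cfsg.Agent.BHZ.Nil

/-- a Heisenberg pair above a central quotient -/
structure HP {Γ X : Type*} [Group Γ] [Group X] (π : Γ →* X) (a b z : Γ) : Prop where
  surj : Function.Surjective π
  ker : π.ker ≤ Subgroup.center Γ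
  hz : π z = 1
  z1 : z ≠ 1
  a3 : a ^ 3 = 1
  b3 : b ^ 3 = 1
  comm : a * b = z * (b * a)

/-- the transitive action on the nontrivial elements of a group of order `9` -/
theorem trans_of {Y : Type*} [Group Y] {A B : Y} (hAB : Commute A B) (hA : A ^ 3 = 1) (hB : B ^ 3 = 1)
    {Q : Subgroup Y} [Finite Q] (hQ : ∀ x, x ∈ Q ↔ ∃ i j : ℕ, x = A ^ i * B ^ j) {T : Subgroup Y} {t₁ t₂ : Y}
    (h1 : t₁ ∈ T) (h2 : t₂ ∈ T) (a1 : t₁ * A * t₁⁻¹ = B ^ 2) (b1 : t₁ * B * t₁⁻¹ = A)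
    (a2 : t₂ * A * t₂⁻¹ = A ^ 2 * B ^ 2) (b2 : t₂ * B * t₂⁻¹ = A ^ 2 * B) :
    ∀ u ∈ Q, ∀ v ∈ Q, u ≠ 1 → v ≠ 1 → ∃ t ∈ T, t ∈ Subgroup.normalizer (Q : Set Y) ∧ t * u * t⁻¹ = v := by
  have hAQ : A ∈ Q := (hQ A).2 ⟨1, 0, by simp⟩
  have hBQ : B ∈ Q := (hQ B).2 ⟨0, 1, by simp⟩
  have hc : ∀ t : Y, ∀ i j : ℕ, t * (A ^ i * B ^ j) * t⁻¹ = (t * A * t⁻¹) ^ i * (t * B * t⁻¹) ^ j := by
    intro t i j
    rw [conj_pow, conj_pow]
    group
  have hN : ∀ t : Y, t * A * t⁻¹ ∈ Q → t * B * t⁻¹ ∈ Q → t ∈ Subgroup.normalizer (Q : Set Y) := by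
    intro t ha hb
    refine Subgroup.mem_normalizer_fintype fun x hx => ?_
    obtain ⟨i, j, rfl⟩ := (hQ x).1 hx
    rw [hc]
    exact mul_mem (pow_mem ha i) (pow_mem hb j)
  have n1 := hN t₁ (a1 ▸ pow_mem hBQ 2) (b1 ▸ hAQ)
  have n2 := hN t₂ (a2 ▸ mul_mem (pow_mem hAQ 2) (pow_mem hBQ 2)) (b2 ▸ mul_mem (pow_mem hAQ 2) hBQ)
  let r : Y → Y → Prop := fun u v => ∃ t ∈ T, t ∈ Subgroup.normalizer (Q : Set Y) ∧ t * u * t⁻¹ = v
  have rs : ∀ {u v}, r u v → r v u := by
    rintro u v ⟨t, ht, hn, rfl⟩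
    exact ⟨t⁻¹, inv_mem ht, inv_mem hn, by group⟩
  have rt : ∀ {u v w}, r u v → r v w → r u w := by
    rintro u v w ⟨t, ht, hn, rfl⟩ ⟨t', ht', hn', rfl⟩
    exact ⟨t' * t, mul_mem ht' ht, mul_mem hn' hn, by group⟩
  have red : ∀ i j : ℕ, A ^ i * B ^ j = A ^ (i % 3) * B ^ (j % 3) := fun i j => by
    rw [pow_eq_pow_mod i hA, pow_eq_pow_mod j hB]
  have s1 : ∀ i j : ℕ, r (A ^ i * B ^ j) (A ^ (j % 3) * B ^ (2 * i % 3)) := fun i j =>
    ⟨t₁, h1, n1, by rw [hc, a1, b1, ← pow_mul, ← red, (hAB.pow_pow j (2 * i)).eq]⟩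
  have s2 : r (A ^ 1 * B ^ 0) (A ^ 2 * B ^ 2) := ⟨t₂, h2, n2, by simpa only [_root_.pow_one, _root_.pow_zero, _root_.mul_one] using a2⟩
  have r0 : r (A ^ 1 * B ^ 0) (A ^ 1 * B ^ 0) := ⟨1, one_mem _, one_mem _, by group⟩
  have r1 : r (A ^ 1 * B ^ 0) (A ^ 0 * B ^ 2) := s1 1 0
  have r2 : r (A ^ 1 * B ^ 0) (A ^ 2 * B ^ 0) := rt r1 (s1 0 2)
  have r3 : r (A ^ 1 * B ^ 0) (A ^ 0 * B ^ 1) := rt r2 (s1 2 0)
  have r4 : r (A ^ 1 * B ^ 0) (A ^ 2 * B ^ 1) := rt s2 (s1 2 2)
  have r5 : r (A ^ 1 * B ^ 0) (A ^ 1 * B ^ 1) := rt r4 (s1 2 1)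
  have r6 : r (A ^ 1 * B ^ 0) (A ^ 1 * B ^ 2) := rt r5 (s1 1 1)
  have key : ∀ u ∈ Q, u ≠ 1 → r (A ^ 1 * B ^ 0) u := by
    intro u hu hu1
    obtain ⟨i, j, rfl⟩ := (hQ u).1 hu
    rw [red i j] at hu1 ⊢
    have hi := Nat.mod_lt i (show 0 < 3 by norm_num)
    have hj := Nat.mod_lt j (show 0 < 3 by norm_num)
    generalize i % 3 = i' at hu1 hi ⊢
    generalize j % 3 = j' at hu1 hj ⊢
    interval_cases i' <;> interval_cases j'
    exacts [absurd (by simp) hu1, r3, r1, r0, r5, r6, r2, r4, s2]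
  intro u hu v hv hu1 hv1
  exact rt (rs (key u hu hu1)) (key v hv hv1)

namespace HP

variable {Γ X : Type*} [Group Γ] [Group X] {π : Γ →* X} {a b z : Γ}

theorem cen (h : HP π a b z) {c : Γ} (hc : π c = 1) (g : Γ) : Commute c g :=
  (Subgroup.mem_center_iff.1 (h.ker hc) g).symm

theorem z3 (h : HP π a b z) : z ^ 3 = 1 := by
  have h1 : a * b * a⁻¹ = z * b := by rw [h.comm]; group
  have h2 : (z * b) ^ 3 = 1 := by rw [← h1, conj_pow, h.b3]; group
  rwa [(h.cen h.hz b).mul_pow, h.b3, mul_one] at h2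

theorem ord_z (h : HP π a b z) : orderOf z = 3 :=
  haveI : Fact (Nat.Prime 3) := ⟨Nat.prime_three⟩
  orderOf_eq_prime h.z3 h.z1

theorem pow_comm (h : HP π a b z) (k j : ℕ) : a ^ k * b ^ j = z ^ (k * j) * (b ^ j * a ^ k) := by
  have hz := h.cen h.hz
  have h1 : ∀ j : ℕ, a * b ^ j = z ^ j * (b ^ j * a) := by
    intro j
    induction j with
    | zero => simp
    | succ j ih =>
      rw [pow_succ b, ← mul_assoc, ih, mul_assoc, mul_assoc, h.comm, ← mul_assoc (b ^ j), ← (hz (b ^ j)).eq,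
        pow_succ z]
      simp only [mul_assoc]
  induction k with
  | zero => simp
  | succ k ih =>
    rw [pow_succ a, mul_assoc, h1, ← mul_assoc, ← ((hz (a ^ k)).pow_left j).eq, mul_assoc, ← mul_assoc (a ^ k), ih,
      Nat.succ_mul, add_comm, pow_add]
    simp only [mul_assoc]

theorem of_commute (h : HP π a b z) {i j k l : ℕ} (hc : Commute (a ^ i * b ^ j) (a ^ k * b ^ l)) :
    j * k ≡ i * l [MOD 3] := by
  have hz := h.cen h.hz
  have e1 : ∀ i j k l : ℕ, z ^ (k * j) * (a ^ i * b ^ j * (a ^ k * b ^ l)) = a ^ (i + k) * b ^ (j + l) := by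
    intro i j k l
    rw [pow_add, pow_add, mul_assoc (a ^ i) (a ^ k), ← mul_assoc (a ^ k), h.pow_comm k j, ← mul_assoc, ← mul_assoc,
      ← mul_assoc, ((hz (a ^ i)).pow_left _).eq]
    simp only [mul_assoc]
  have e2 := e1 k l i j
  rw [← hc.eq, add_comm k, add_comm l, ← e1 i j k l] at e2
  have e3 := mul_right_cancel e2
  rw [pow_eq_pow_iff_modEq, h.ord_z] at e3
  rw [mul_comm j]
  exact e3.symm

theorem cAB (h : HP π a b z) : Commute (π a) (π b) := by
  change π a * π b = π b * π a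
  rw [← map_mul, h.comm, map_mul, h.hz, one_mul, map_mul]

theorem A3 (h : HP π a b z) : π a ^ 3 = 1 := by rw [← map_pow, h.a3, map_one]

theorem B3 (h : HP π a b z) : π b ^ 3 = 1 := by rw [← map_pow, h.b3, map_one]

theorem mul_W (h : HP π a b z) (i j k l : ℕ) :
    π a ^ i * π b ^ j * (π a ^ k * π b ^ l) = π a ^ (i + k) * π b ^ (j + l) := by
  rw [pow_add, pow_add, mul_assoc, mul_assoc, ← mul_assoc (π b ^ j), ← (h.cAB.pow_pow k j).eq, mul_assoc]

theorem red (h : HP π a b z) (i j : ℕ) : π a ^ i * π b ^ j = π a ^ (i % 3) * π b ^ (j % 3) := by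
  rw [pow_eq_pow_mod i h.A3, pow_eq_pow_mod j h.B3]

theorem mem_Q (h : HP π a b z) (x : X) :
    x ∈ Subgroup.closure {π a, π b} ↔ ∃ i j : ℕ, x = π a ^ i * π b ^ j := by
  constructor
  · intro hx
    induction hx using Subgroup.closure_induction with
    | mem x hx =>
      rcases hx with rfl | rfl
      exacts [⟨1, 0, by simp⟩, ⟨0, 1, by simp⟩]
    | one => exact ⟨0, 0, by simp⟩
    | mul x y _ _ hx hy =>
      obtain ⟨i, j, rfl⟩ := hx
      obtain ⟨k, l, rfl⟩ := hy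
      exact ⟨_, _, h.mul_W i j k l⟩
    | inv x _ hx =>
      obtain ⟨i, j, rfl⟩ := hx
      refine ⟨2 * i, 2 * j, inv_eq_of_mul_eq_one_right ?_⟩
      rw [h.mul_W, h.red, show (i + 2 * i) % 3 = 0 by omega, show (j + 2 * j) % 3 = 0 by omega]
      simp
  · rintro ⟨i, j, rfl⟩
    exact mul_mem (pow_mem (Subgroup.subset_closure (by simp)) i) (pow_mem (Subgroup.subset_closure (by simp)) j)

theorem W_eq_one (h : HP π a b z) {i j : ℕ} (h1 : π a ^ i * π b ^ j = 1) : i % 3 = 0 ∧ j % 3 = 0 := by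
  have h2 : π (a ^ i * b ^ j) = 1 := by rw [map_mul, map_pow, map_pow, h1]
  have h3 := h.of_commute (h.cen h2 (a ^ 1 * b ^ 0))
  have h4 := h.of_commute (h.cen h2 (a ^ 0 * b ^ 1))
  unfold Nat.ModEq at h3 h4
  omega

theorem card_Q (h : HP π a b z) : Nat.card (Subgroup.closure {π a, π b} : Subgroup X) = 9 := by
  let f : Fin 3 × Fin 3 → (Subgroup.closure {π a, π b} : Subgroup X) :=
    fun p => ⟨π a ^ (p.1 : ℕ) * π b ^ (p.2 : ℕ), (h.mem_Q _).2 ⟨_, _, rfl⟩⟩
  have hf : Function.Bijective f := by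
    constructor
    · rintro ⟨i, j⟩ ⟨k, l⟩ hij
      have h1 : π a ^ (i : ℕ) * π b ^ (j : ℕ) = π a ^ (k : ℕ) * π b ^ (l : ℕ) := congrArg Subtype.val hij
      have h2 : π a ^ ((i : ℕ) + 2 * k) * π b ^ ((j : ℕ) + 2 * l) = 1 := by
        rw [← h.mul_W, h1, h.mul_W, h.red, show ((k : ℕ) + 2 * k) % 3 = 0 by omega,
          show ((l : ℕ) + 2 * l) % 3 = 0 by omega]
        simp
      have h3 := h.W_eq_one h2
      exact Prod.ext (Fin.ext (by simp only; omega)) (Fin.ext (by simp only; omega))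
    · rintro ⟨x, hx⟩
      obtain ⟨i, j, rfl⟩ := (h.mem_Q x).1 hx
      exact ⟨(⟨i % 3, Nat.mod_lt _ (by norm_num)⟩, ⟨j % 3, Nat.mod_lt _ (by norm_num)⟩),
        Subtype.ext (h.red i j).symm⟩
  rw [← Nat.card_eq_of_bijective f hf]
  simp

theorem comm_Q (h : HP π a b z) {x y : X} (hx : x ∈ Subgroup.closure {π a, π b})
    (hy : y ∈ Subgroup.closure {π a, π b}) : x * y = y * x := by
  obtain ⟨i, j, rfl⟩ := (h.mem_Q x).1 hx
  obtain ⟨k, l, rfl⟩ := (h.mem_Q y).1 hy
  rw [h.mul_W, h.mul_W, add_comm i, add_comm j]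

theorem cube_Q (h : HP π a b z) {x : X} (hx : x ∈ Subgroup.closure {π a, π b}) : x ^ 3 = 1 := by
  obtain ⟨i, j, rfl⟩ := (h.mem_Q x).1 hx
  rw [(h.cAB.pow_pow i j).mul_pow, ← pow_mul, ← pow_mul, mul_comm i, mul_comm j, pow_mul, pow_mul, h.A3, h.B3]
  simp

/-- commuting lifts are dependent -/
theorem lin (h : HP π a b z) {u d : Γ} (hu : π u ∈ Subgroup.closure {π a, π b})
    (hd : π d ∈ Subgroup.closure {π a, π b}) (hu1 : π u ≠ 1) (hc : Commute u d) : ∃ e : ℕ, π d = π u ^ e := by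
  obtain ⟨i, j, hij⟩ := (h.mem_Q _).1 hu
  obtain ⟨k, l, hkl⟩ := (h.mem_Q _).1 hd
  have c1 : π (u⁻¹ * (a ^ i * b ^ j)) = 1 := by simp only [hij, _root_.map_mul, _root_.map_inv, _root_.mul_inv_rev, _root_.map_pow, _root_.mul_inv_mul_mul_cancel, _root_.inv_mul_cancel]
  have c2 : π (d⁻¹ * (a ^ k * b ^ l)) = 1 := by simp only [hkl, _root_.map_mul, _root_.map_inv, _root_.mul_inv_rev, _root_.map_pow, _root_.mul_inv_mul_mul_cancel, _root_.inv_mul_cancel]
  have h1 : Commute (a ^ i * b ^ j) (a ^ k * b ^ l) := by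
    rw [← mul_inv_cancel_left u (a ^ i * b ^ j), ← mul_inv_cancel_left d (a ^ k * b ^ l)]
    exact (hc.mul_right (h.cen c2 u).symm).mul_left (h.cen c1 _)
  have h2 := h.of_commute h1
  have h3 : ¬ (i % 3 = 0 ∧ j % 3 = 0) := by
    rintro ⟨hi, hj⟩
    apply hu1
    rw [hij, h.red, hi, hj]
    simp
  have h4 : ∃ e : ℕ, (i * e) % 3 = k % 3 ∧ (j * e) % 3 = l % 3 := by
    unfold Nat.ModEq at h2
    rw [Nat.mul_mod j, Nat.mul_mod i] at h2
    simp only [Nat.mul_mod i, Nat.mul_mod j]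
    have hi := Nat.mod_lt i (show 0 < 3 by norm_num)
    have hj := Nat.mod_lt j (show 0 < 3 by norm_num)
    have hk := Nat.mod_lt k (show 0 < 3 by norm_num)
    have hl := Nat.mod_lt l (show 0 < 3 by norm_num)
    generalize i % 3 = i' at *
    generalize j % 3 = j' at *
    generalize k % 3 = k' at *
    generalize l % 3 = l' at *
    interval_cases i' <;> interval_cases j' <;> interval_cases k' <;> interval_cases l' <;>
      [((clear * - h3 h2; omega)); ((clear * - h3 h2; omega)); ((clear * - h3 h2; omega)); ((clear * - h3 h2; omega)); ((clear * - h3 h2; omega));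
       ((clear * - h3 h2; omega)); ((clear * - h3 h2; omega)); ((clear * - h3 h2; omega)); ((clear * - h3 h2; omega)); (exact ⟨0, rfl, rfl⟩);
       (exact ⟨1, rfl, rfl⟩); (exact ⟨2, rfl, rfl⟩); ((clear * - h3 h2; omega)); ((clear * - h3 h2; omega)); ((clear * - h3 h2; omega));
       ((clear * - h3 h2; omega)); ((clear * - h3 h2; omega)); ((clear * - h3 h2; omega)); (exact ⟨0, rfl, rfl⟩); (exact ⟨2, rfl, rfl⟩);
       (exact ⟨1, rfl, rfl⟩); ((clear * - h3 h2; omega)); ((clear * - h3 h2; omega)); ((clear * - h3 h2; omega)); ((clear * - h3 h2; omega));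
       ((clear * - h3 h2; omega)); ((clear * - h3 h2; omega)); (exact ⟨0, rfl, rfl⟩); ((clear * - h3 h2; omega)); ((clear * - h3 h2; omega));
       (exact ⟨1, rfl, rfl⟩); ((clear * - h3 h2; omega)); ((clear * - h3 h2; omega)); (exact ⟨2, rfl, rfl⟩); ((clear * - h3 h2; omega));
       ((clear * - h3 h2; omega)); (exact ⟨0, rfl, rfl⟩); ((clear * - h3 h2; omega)); ((clear * - h3 h2; omega)); ((clear * - h3 h2; omega));
       (exact ⟨1, rfl, rfl⟩); ((clear * - h3 h2; omega)); ((clear * - h3 h2; omega)); ((clear * - h3 h2; omega)); (exact ⟨2, rfl, rfl⟩);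
       (exact ⟨0, rfl, rfl⟩); ((clear * - h3 h2; omega)); ((clear * - h3 h2; omega)); ((clear * - h3 h2; omega)); ((clear * - h3 h2; omega));
       (exact ⟨1, rfl, rfl⟩); ((clear * - h3 h2; omega)); (exact ⟨2, rfl, rfl⟩); ((clear * - h3 h2; omega)); (exact ⟨0, rfl, rfl⟩);
       ((clear * - h3 h2; omega)); ((clear * - h3 h2; omega)); (exact ⟨2, rfl, rfl⟩); ((clear * - h3 h2; omega)); ((clear * - h3 h2; omega));
       (exact ⟨1, rfl, rfl⟩); ((clear * - h3 h2; omega)); ((clear * - h3 h2; omega)); (exact ⟨0, rfl, rfl⟩); ((clear * - h3 h2; omega));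
       ((clear * - h3 h2; omega)); ((clear * - h3 h2; omega)); ((clear * - h3 h2; omega)); (exact ⟨2, rfl, rfl⟩); ((clear * - h3 h2; omega));
       (exact ⟨1, rfl, rfl⟩); ((clear * - h3 h2; omega)); (exact ⟨0, rfl, rfl⟩); ((clear * - h3 h2; omega)); ((clear * - h3 h2; omega));
       ((clear * - h3 h2; omega)); (exact ⟨2, rfl, rfl⟩); ((clear * - h3 h2; omega)); ((clear * - h3 h2; omega)); ((clear * - h3 h2; omega));
       (exact ⟨1, rfl, rfl⟩)]
  obtain ⟨e, h5, h6⟩ := h4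
  exact ⟨e, by rw [hij, hkl, (h.cAB.pow_pow i j).mul_pow, ← pow_mul, ← pow_mul, h.red (i * e), h5, h6, ← h.red]⟩

/-- the normalizer acts with determinant one -/
theorem cube (h : HP π a b z) {t u : X}
    (ht : t ∈ Subgroup.normalizer ((Subgroup.closure {π a, π b} : Subgroup X) : Set X))
    (hu : u ∈ Subgroup.closure {π a, π b}) (hu1 : u ≠ 1) (htu : t * u * t⁻¹ = u) :
    t ^ 3 ∈ Ce (Subgroup.closure {π a, π b} : Subgroup X) := by
  refine Subgroup.mem_centralizer_iff.2 fun v hv => ?_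
  obtain ⟨s, rfl⟩ := h.surj t
  obtain ⟨u, rfl⟩ := h.surj u
  obtain ⟨v, rfl⟩ := h.surj v
  have hd : π (s * v * s⁻¹ * v⁻¹) ∈ Subgroup.closure {π a, π b} := by
    rw [map_mul, map_mul, map_mul, map_inv, map_inv]
    exact mul_mem ((Subgroup.mem_normalizer_iff.1 ht _).1 hv) (inv_mem hv)
  have c1 : π (u⁻¹ * (s * u * s⁻¹)) = 1 := by simp [htu]
  have c2 : π (u * v * u⁻¹ * v⁻¹) = 1 := by
    simp only [map_mul, map_inv]
    rw [h.comm_Q hu hv]
    group
  have hc : Commute u (s * v * s⁻¹ * v⁻¹) := by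
    have e1 := (h.cen c1 (s * v * s⁻¹)).eq
    have e2 := (h.cen c2 s).eq
    have e3 := (h.cen c2 (s * v * s⁻¹ * v⁻¹)).eq
    have e4 := (h.cen c2 v⁻¹).eq
    have e5 : u * (s * v * s⁻¹) * u⁻¹ = s * (u * v * u⁻¹ * v⁻¹) * s⁻¹ * (s * v * s⁻¹) := by
      calc u * (s * v * s⁻¹) * u⁻¹
          = u * ((s * v * s⁻¹) * (u⁻¹ * (s * u * s⁻¹))) * (s * u * s⁻¹)⁻¹ := by group
        _ = u * ((u⁻¹ * (s * u * s⁻¹)) * (s * v * s⁻¹)) * (s * u * s⁻¹)⁻¹ := by rw [e1]
        _ = _ := by group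
    rw [← e2] at e5
    change u * _ = _ * u
    calc u * (s * v * s⁻¹ * v⁻¹) = (u * (s * v * s⁻¹) * u⁻¹) * (u * v⁻¹) := by group
      _ = (u * v * u⁻¹ * v⁻¹) * (s * v * s⁻¹ * v⁻¹) * (v * u * v⁻¹) := by rw [e5]; group
      _ = (s * v * s⁻¹ * v⁻¹) * (u * v * u⁻¹ * v⁻¹) * (v * u * v⁻¹) := by rw [e3]
      _ = (s * v * s⁻¹ * v⁻¹) * (u * v * v⁻¹) := by group
      _ = _ := by group
  obtain ⟨e, he⟩ := h.lin hu hd hu1 hc
  have h1 : π s * π v * (π s)⁻¹ = π u ^ e * π v := by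
    rw [← he]
    simp only [_root_.map_mul, _root_.map_inv, _root_.inv_mul_cancel_right]
  have h2 : π s * π u ^ e * (π s)⁻¹ = π u ^ e := by rw [← conj_pow, htu]
  have h3 : (π u ^ e) ^ 3 = 1 := h.cube_Q (pow_mem hu e)
  generalize π u ^ e = d at h1 h2 h3
  generalize π s = t at h1 h2
  generalize π v = w at h1
  have h4 : t * w = d * w * t := by rw [← h1]; group
  have h5 : t * d = d * t := by
    conv_rhs => rw [← h2]
    group
  calc w * t ^ 3 = d ^ 3 * w * t ^ 3 := by rw [h3, one_mul]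
    _ = d * (d * (d * w * t) * t) * t := by simp only [pow_succ, pow_zero, one_mul, mul_assoc]
    _ = d * ((d * t) * (w * t)) * t := by rw [← h4]; simp only [mul_assoc]
    _ = d * (t * (d * w * t)) * t := by rw [← h5]; simp only [mul_assoc]
    _ = (d * t) * t * (w * t) := by rw [← h4]; simp only [mul_assoc]
    _ = t * (d * t) * (w * t) := by
      conv_lhs => rw [← h5]
      simp only [mul_assoc]
    _ = t * t * (d * w * t) := by rw [← h5]; simp only [mul_assoc]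
    _ = t ^ 3 * w := by rw [← h4]; simp only [pow_succ, pow_zero, one_mul, mul_assoc]

section Cover

variable {G X : Type} [Group G] [Finite G] [Group X] {π : Γ →* X} {σ : G →* X} {M : Ideal AlgInt}
  {bl : Set (IrrCharacter G)} {D : Subgroup G}

theorem inj_D (H : Hyp 3 M bl D σ) {u v : G} (hu : u ∈ D) (hv : v ∈ D) (h : σ u = σ v) : u = v :=
  haveI : Fact (Nat.Prime 3) := ⟨Nat.prime_three⟩
  congrArg Subtype.val (H.injD (a₁ := ⟨u, hu⟩) (a₂ := ⟨v, hv⟩) (Subtype.ext h))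

theorem card_D (h : HP π a b z) (H : Hyp 3 M bl D σ) (hQ : D.map σ = Subgroup.closure {π a, π b}) :
    Nat.card D = 9 := by
  have : Fact (Nat.Prime 3) := ⟨Nat.prime_three⟩
  rw [← h.card_Q, ← hQ]
  exact Nat.card_eq_of_bijective _ ⟨H.injD, σ.subgroupMap_surjective D⟩

theorem ab_D (h : HP π a b z) (H : Hyp 3 M bl D σ) (hQ : D.map σ = Subgroup.closure {π a, π b}) : D ≤ Ce D := by
  intro u hu
  refine Subgroup.mem_centralizer_iff.2 fun v hv => inj_D H (mul_mem hv hu) (mul_mem hu hv) ?_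
  rw [map_mul, map_mul]
  exact h.comm_Q (hQ ▸ ⟨v, hv, rfl⟩) (hQ ▸ ⟨u, hu, rfl⟩)

theorem cube_D (h : HP π a b z) (H : Hyp 3 M bl D σ) (hQ : D.map σ = Subgroup.closure {π a, π b}) {t u : G}
    (ht : t ∈ Subgroup.normalizer (D : Set G)) (hu : u ∈ D) (hu1 : u ≠ 1) (htu : t * u * t⁻¹ = u) :
    t ^ 3 ∈ Ce D := by
  have : Fact (Nat.Prime 3) := ⟨Nat.prime_three⟩
  refine H.cpp.mem_centralizer (isPGroup_defect H.hD) ?_
  rw [map_pow, hQ]
  refine h.cube (u := σ u) (hQ ▸ map_mem_normalizer ht) (hQ ▸ ⟨u, hu, rfl⟩)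
    (fun h1 => hu1 (inj_D H hu (one_mem _) (h1.trans (map_one σ).symm))) ?_
  rw [← map_inv, ← map_mul, ← map_mul, htu]

theorem reg_D (h : HP π a b z) (H : Hyp 3 M bl D σ) (hQ : D.map σ = Subgroup.closure {π a, π b}) :
    ∀ t ∈ Subgroup.normalizer (D : Set G), ¬ 3 ∣ orderOf t → ∀ u ∈ D, u ≠ 1 → t * u * t⁻¹ = u → t ∈ Ce D := by
  intro t ht h3 u hu hu1 htu
  have h1 := h.cube_D H hQ ht hu hu1 htu
  obtain ⟨k, hk⟩ := exists_pow_eq_self_of_coprime (x := t) (n := 3)
    ((Nat.Prime.coprime_iff_not_dvd Nat.prime_three).2 h3)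
  rw [← hk]
  exact pow_mem h1 k

theorem trans_D (h : HP π a b z) (H : Hyp 3 M bl D σ) (hQ : D.map σ = Subgroup.closure {π a, π b})
    {T : Subgroup G} {t₁ t₂ : G} (h1 : t₁ ∈ T) (h2 : t₂ ∈ T)
    (a1 : σ t₁ * π a * (σ t₁)⁻¹ = π b ^ 2) (b1 : σ t₁ * π b * (σ t₁)⁻¹ = π a)
    (a2 : σ t₂ * π a * (σ t₂)⁻¹ = π a ^ 2 * π b ^ 2) (b2 : σ t₂ * π b * (σ t₂)⁻¹ = π a ^ 2 * π b) :
    ∀ u ∈ D, ∀ v ∈ D, u ≠ 1 → v ≠ 1 → ∃ t ∈ T, t ∈ Subgroup.normalizer (D : Set G) ∧ t * u * t⁻¹ = v := by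
  have : Fact (Nat.Prime 3) := ⟨Nat.prime_three⟩
  have : Finite X := Finite.of_surjective σ H.surj
  intro u hu v hv hu1 hv1
  obtain ⟨_, ⟨t, ht, rfl⟩, hn, he⟩ := trans_of h.cAB h.A3 h.B3 h.mem_Q (T := T.map σ) ⟨t₁, h1, rfl⟩ ⟨t₂, h2, rfl⟩
    a1 b1 a2 b2 (σ u) (hQ ▸ ⟨u, hu, rfl⟩) (σ v) (hQ ▸ ⟨v, hv, rfl⟩)
    (fun h1 => hu1 (inj_D H hu (one_mem _) (h1.trans (map_one σ).symm)))
    (fun h1 => hv1 (inj_D H hv (one_mem _) (h1.trans (map_one σ).symm)))
  have hn' : t ∈ Subgroup.normalizer (D : Set G) := H.cpp.mem_normalizer (isPGroup_defect H.hD) (hQ ▸ hn)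
  refine ⟨t, ht, hn', inj_D H ((Subgroup.mem_normalizer_iff.1 hn' u).1 hu) hv ?_⟩
  rw [map_mul, map_mul, map_inv, he]

end Cover

end HP

end Cfsg.Agent.TO.L2
end

-- part: TO/L2/Core
section
/-!
# The common core of the boxes L2 and U2
-/

set_option autoImplicit false
set_option linter.unusedSectionVars false

namespace Cfsg.Agent.TO.L2

open Cfsg Cfsg.Agent.BHZ.Nil
open scoped commutatorElement

theorem hs_of_heis {n : ℕ} {F : Type} [Field F] {a b : Matrix (Fin n) (Fin n) F} {ω : F} (h : Heis3 a b ω) :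
    Hs a b ω := ⟨h.prim, h.a3, h.b3, h.comm⟩

/-- `Γ` is a group of units of an algebra whose centre consists of scalars, `π` is the quotient by the centre -/
structure MG (F : Type*) [Field F] {R : Type*} [Ring R] [Algebra F R] {Γ X : Type*} [Group Γ] [Group X]
    (j : Γ →* R) (π : Γ →* X) : Prop where
  inj : Function.Injective j
  surj : Function.Surjective π
  ker : ∀ g, π g = 1 ↔ g ∈ Subgroup.center Γ
  sc : ∀ g ∈ Subgroup.center Γ, ∃ s : F, j g = s • 1

variable {F : Type*} [Field F] {R : Type*} [Ring R] [Algebra F R] [Nontrivial R] {Γ : Type*} [Group Γ]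
  {j : Γ →* R} {a b : Γ} {ω : F}

/-- the elements which lie in the algebra spanned by the pair -/
def Alg [Finite Γ] (h : Hs (j a) (j b) ω) : Subgroup Γ where
  carrier := {g | ∃ y : Matrix (Fin 3) (Fin 3) F, j g = psi (j a) (j b) y}
  one_mem' := ⟨1, by rw [map_one, h.psi_one]⟩
  mul_mem' := by
    rintro g g' ⟨y, hy⟩ ⟨y', hy'⟩
    exact ⟨y * y', by rw [map_mul, hy, hy', h.psi_mul]⟩
  inv_mem' := by
    rintro g ⟨y, hy⟩
    refine ⟨y ^ (orderOf g - 1), ?_⟩
    rw [← h.psiH_apply, map_pow, h.psiH_apply, ← hy, ← map_pow]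
    congr 1
    rw [eq_comm, ← mul_eq_one_iff_eq_inv, ← pow_succ, Nat.sub_add_cancel (orderOf_pos g), pow_orderOf_eq_one]

theorem det_inv (h : Hs (j a) (j b) ω) {g : Γ} {y y' : Matrix (Fin 3) (Fin 3) F} (hy : j g = psi (j a) (j b) y)
    (hy' : j g⁻¹ = psi (j a) (j b) y') : y.det * y'.det = 1 := by
  have h1 : y * y' = 1 := h.psi_inj (by rw [h.psi_mul, ← hy, ← hy', ← map_mul, mul_inv_cancel, map_one, h.psi_one])
  rw [← Matrix.det_mul, h1, Matrix.det_one]

/-- those with reduced norm one -/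
def Alg1 [Finite Γ] (h : Hs (j a) (j b) ω) : Subgroup Γ where
  carrier := {g | ∃ y : Matrix (Fin 3) (Fin 3) F, j g = psi (j a) (j b) y ∧ y.det = 1}
  one_mem' := ⟨1, by rw [map_one, h.psi_one], Matrix.det_one⟩
  mul_mem' := by
    rintro g g' ⟨y, hy, hd⟩ ⟨y', hy', hd'⟩
    exact ⟨y * y', by rw [map_mul, hy, hy', h.psi_mul], by rw [Matrix.det_mul, hd, hd', one_mul]⟩
  inv_mem' := by
    rintro g ⟨y, hy, hd⟩
    obtain ⟨y', hy'⟩ := (Alg h).inv_mem ⟨y, hy⟩
    exact ⟨y', hy', by rw [← det_inv h hy hy', hd, one_mul]⟩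

theorem comm_le_Alg1 [Finite Γ] (h : Hs (j a) (j b) ω) : ⁅Alg h, Alg h⁆ ≤ Alg1 h := by
  refine Subgroup.commutator_le.2 ?_
  rintro g ⟨y, hy⟩ g' ⟨y', hy'⟩
  obtain ⟨x, hx⟩ := (Alg h).inv_mem ⟨y, hy⟩
  obtain ⟨x', hx'⟩ := (Alg h).inv_mem ⟨y', hy'⟩
  refine ⟨y * y' * x * x', ?_, ?_⟩
  · rw [commutatorElement_def, map_mul, map_mul, map_mul, hy, hy', hx, hx', h.psi_mul, h.psi_mul, h.psi_mul]
  · rw [Matrix.det_mul, Matrix.det_mul, Matrix.det_mul]
    linear_combination y'.det * x'.det * det_inv h hy hx + det_inv h hy' hx'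

namespace MG

section

variable {X : Type*} [Group X] {π : Γ →* X}

theorem one_of_scalar (m : MG F j π) {g : Γ} {s : F} (hg : j g = s • 1) : π g = 1 :=
  (m.ker g).2 (Subgroup.mem_center_iff.2 fun x => m.inj (by
    rw [map_mul, map_mul, hg, mul_smul_comm, smul_mul_assoc, mul_one, one_mul]))

theorem eq_of_smul (m : MG F j π) {g g' : Γ} {s : F} (hg : j g = s • j g') : π g = π g' := by
  rw [← mul_inv_eq_one, ← map_inv, ← map_mul]
  exact m.one_of_scalar (s := s) (by rw [map_mul, hg, smul_mul_assoc, ← map_mul, mul_inv_cancel, map_one])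

theorem j_z (h : Hs (j a) (j b) ω) : j ⁅a, b⁆ = ω • 1 := by
  have h1 : ⁅a, b⁆ = a * b * (b * a)⁻¹ := by rw [commutatorElement_def]; group
  rw [h1, map_mul, map_mul, h.comm, smul_mul_assoc, ← map_mul, ← map_mul, mul_inv_cancel, map_one]

theorem hp (m : MG F j π) (h : Hs (j a) (j b) ω) : HP π a b ⁅a, b⁆ where
  surj := m.surj
  ker := fun g hg => (m.ker g).1 hg
  hz := m.one_of_scalar (j_z h)
  z1 := fun h1 => w1 h.prim (smul_left_injective F (one_ne_zero (α := R)) (by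
    have := j_z h
    rw [h1, map_one] at this
    simpa using this.symm))
  a3 := m.inj (by rw [map_pow, h.a3, map_one])
  b3 := m.inj (by rw [map_pow, h.b3, map_one])
  comm := by rw [commutatorElement_def]; group

theorem P1_a (m : MG F j π) (h : Hs (j a) (j b) ω) {g : Γ} {c : F} (hg : j g = psi (j a) (j b) (c • P1 ω)) :
    π g * π a * (π g)⁻¹ = π b ^ 2 := by
  rw [mul_inv_eq_iff_eq_mul, ← map_pow, ← map_mul, ← map_mul]
  refine m.eq_of_smul (s := 1) ?_
  have h1 := congrArg (psi (j a) (j b)) (P1_mA h.prim)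
  simp only [h.psi_mul, h.psi_mA, h.psi_mB] at h1
  rw [one_smul, map_mul, map_mul, map_pow, hg, psi_smul, smul_mul_assoc, h1, mul_smul_comm, pow_two]

theorem P1_b (m : MG F j π) (h : Hs (j a) (j b) ω) {g : Γ} {c : F} (hg : j g = psi (j a) (j b) (c • P1 ω)) :
    π g * π b * (π g)⁻¹ = π a := by
  rw [mul_inv_eq_iff_eq_mul, ← map_mul, ← map_mul]
  refine m.eq_of_smul (s := 1) ?_
  have h1 := congrArg (psi (j a) (j b)) (P1_mB h.prim)
  simp only [h.psi_mul, h.psi_mA, h.psi_mB] at h1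
  rw [one_smul, map_mul, map_mul, hg, psi_smul, smul_mul_assoc, h1, mul_smul_comm]

theorem P2_a (m : MG F j π) (h : Hs (j a) (j b) ω) {g : Γ} {c : F} (hg : j g = psi (j a) (j b) (c • P2 ω)) :
    π g * π a * (π g)⁻¹ = π a ^ 2 * π b ^ 2 := by
  rw [mul_inv_eq_iff_eq_mul, ← map_pow, ← map_pow, ← map_mul, ← map_mul, ← map_mul]
  refine m.eq_of_smul (s := 1) ?_
  have h1 := congrArg (psi (j a) (j b)) (P2_mA h.prim)
  simp only [h.psi_mul, h.psi_mA, h.psi_mB] at h1
  rw [one_smul, map_mul, map_mul, map_mul, map_pow, map_pow, hg, psi_smul, smul_mul_assoc, h1, mul_smul_comm, pow_two,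
    pow_two]

theorem P2_b (m : MG F j π) (h : Hs (j a) (j b) ω) {g : Γ} {c : F} (hg : j g = psi (j a) (j b) (c • P2 ω)) :
    π g * π b * (π g)⁻¹ = π a ^ 2 * π b := by
  rw [mul_inv_eq_iff_eq_mul, ← map_pow, ← map_mul, ← map_mul, ← map_mul]
  refine m.eq_of_smul (s := ω ^ 2) ?_
  have h1 := congrArg (psi (j a) (j b)) (P2_mB h.prim)
  simp only [h.psi_mul, h.psi_mA, h.psi_mB, psi_smul] at h1
  rw [map_mul, map_mul, map_mul, map_pow, hg, psi_smul, smul_mul_assoc, h1, mul_smul_comm, pow_two (j a), smul_comm]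

/-- commutation modulo the centre with an element of order `3` -/
theorem twist (m : MG F j π) (h : Hs (j a) (j b) ω) {g x : Γ} (hx : x ^ 3 = 1) (hg : π g * π x = π x * π g) :
    ∃ e : ℕ, g * x = ⁅a, b⁆ ^ e * (x * g) := by
  have hk : π.ker ≤ Subgroup.center Γ := (m.hp h).ker
  have h1 : ⁅x, g⁆ ^ 3 = 1 := cent_comm_pow hk hg.symm hx
  have h2 : ⁅g, x⁆ ^ 3 = 1 := by rw [← commutatorElement_inv, inv_pow, h1, inv_one]
  obtain ⟨s, hs⟩ := m.sc _ (hk (CentPP.comm_ker hg))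
  have h3 : s ^ 3 = 1 := smul_left_injective F (one_ne_zero (α := R)) (by
    have := congrArg j h2
    rw [map_pow, hs, smul_pow, one_pow, map_one] at this
    simpa using this)
  obtain ⟨e, he⟩ : ∃ e : ℕ, s = ω ^ e := by
    rcases cube_root h.prim h3 with h4 | h4 | h4
    exacts [⟨0, by simpa using h4⟩, ⟨1, by simpa using h4⟩, ⟨2, h4⟩]
  have h4 : ⁅g, x⁆ = ⁅a, b⁆ ^ e := m.inj (by rw [map_pow, j_z h, hs, smul_pow, one_pow, he])
  exact ⟨e, by rw [← h4, commutatorElement_def]; group⟩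

/-- an element which centralizes the pair modulo the centre -/
theorem untwist (m : MG F j π) (h : Hs (j a) (j b) ω) {g : Γ} (ha : π g * π a = π a * π g)
    (hb : π g * π b = π b * π g) :
    ∃ i k : ℕ, a ^ i * b ^ k * g * a = a * (a ^ i * b ^ k * g) ∧ a ^ i * b ^ k * g * b = b * (a ^ i * b ^ k * g) := by
  have H := m.hp h
  obtain ⟨e, he⟩ := m.twist h H.a3 ha
  obtain ⟨f, hf⟩ := m.twist h H.b3 hb
  have hz := H.cen H.hz
  have h1 := H.pow_comm 1 e
  have h2 := H.pow_comm (2 * f) 1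
  have h3 : ⁅a, b⁆ ^ f * ⁅a, b⁆ ^ (2 * f) = 1 := by
    rw [← pow_add, show f + 2 * f = 3 * f by ring, pow_mul, H.z3, one_pow]
  rw [pow_one, one_mul] at h1
  rw [pow_one, mul_one] at h2
  generalize ⁅a, b⁆ = z at *
  refine ⟨2 * f, e, ?_, ?_⟩
  · calc a ^ (2 * f) * b ^ e * g * a = a ^ (2 * f) * (b ^ e * z ^ e) * a * g := by
          rw [mul_assoc _ g, he]; simp only [mul_assoc]
      _ = a ^ (2 * f) * (z ^ e * (b ^ e * a)) * g := by
          rw [← ((hz (b ^ e)).pow_left e).eq]; simp only [mul_assoc]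
      _ = _ := by rw [← h1, ← mul_assoc, ← pow_succ, pow_succ']; simp only [mul_assoc]
  · calc a ^ (2 * f) * b ^ e * g * b = (a ^ (2 * f) * b ^ e * z ^ f) * b * g := by
          rw [mul_assoc _ g, hf]; simp only [mul_assoc]
      _ = z ^ f * (a ^ (2 * f) * b) * b ^ e * g := by
          rw [← ((hz (a ^ (2 * f) * b ^ e)).pow_left f).eq]
          simp only [mul_assoc]
          rw [← mul_assoc (b ^ e), ← pow_succ, ← mul_assoc b, ← pow_succ']
      _ = _ := by rw [h2, ← mul_assoc (z ^ f), h3, one_mul]; simp only [mul_assoc]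

/-- the centralizer of the pair in the algebra, modulo the centre -/
theorem inner (m : MG F j π) (h : Hs (j a) (j b) ω) {g : Γ} {y : Matrix (Fin 3) (Fin 3) F}
    (hy : j g = psi (j a) (j b) y) (ha : π g * π a = π a * π g) (hb : π g * π b = π b * π g) :
    ∃ (i k : ℕ) (s : F), j (a ^ i * b ^ k * g) = s • 1 ∧ y.det = s ^ 3 := by
  obtain ⟨i, k, h1, h2⟩ := m.untwist h ha hb
  have h3 : j (a ^ i * b ^ k * g) = psi (j a) (j b) (mA ω ^ i * mB F ^ k * y) := by
    rw [← h.psiH_apply, map_mul h.psiH, map_mul h.psiH, map_pow h.psiH, map_pow h.psiH]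
    simp only [map_mul, map_pow, h.psiH_apply, h.psi_mA, h.psi_mB, hy]
  obtain ⟨s, hs⟩ := h.scalar_of_comm (y := mA ω ^ i * mB F ^ k * y) (by rw [← h3, ← map_mul, h1, map_mul])
    (by rw [← h3, ← map_mul, h2, map_mul])
  refine ⟨i, k, s, by rw [h3, hs, h.psi_scalar], ?_⟩
  have h4 := congrArg Matrix.det hs
  simpa only [Matrix.det_mul, Matrix.det_pow, det_mA h.prim, det_mB, _root_.one_pow, _root_.mul_one, _root_.one_mul, _root_.Matrix.det_smul_of_tower, _root_.Fintype.card_fin, _root_.Matrix.det_one, _root_.smul_eq_mul] using h4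

end

section Core

variable {G X : Type} [Group G] [Finite G] [Group X] {π : Γ →* X} {σ : G →* X} {M : Ideal AlgInt}
  {bl : Set (IrrCharacter G)} {D : Subgroup G}

theorem mem_D (H : Hyp 3 M bl D σ) {ρ : Γ →* G} (hρπ : ∀ g, σ (ρ g) = π g) {x : Γ} (hx : x ^ 3 = 1)
    (hm : π x ∈ D.map σ) : ρ x ∈ D :=
  haveI : Fact (Nat.Prime 3) := ⟨Nat.prime_three⟩
  H.cpp.mem_of_pelt (isPGroup_defect H.hD) (n := 1) (by rw [pow_one, ← map_pow, hx, map_one]) (hρπ x ▸ hm)

/-- **The core**: a canonical subgroup inside the image of the elements of reduced norm one. -/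
theorem core (B : Blk) (H : Hyp 3 M bl D σ) (m : MG F j π) (h : Hs (j a) (j b) ω)
    (hQ : D.map σ = Subgroup.closure {π a, π b}) (ρ : Γ →* G) (hρπ : ∀ g, σ (ρ g) = π g) (K : Subgroup G)
    (hinv : ∀ α : MulAut G, (∀ x, α x ∈ D ↔ x ∈ D) → ∀ x ∈ K, α x ∈ K)
    (hK : ∀ x ∈ K, ∃ (g : Γ) (y : Matrix (Fin 3) (Fin 3) F) (k : ℕ), ρ g = x ∧ j g = psi (j a) (j b) y ∧
      y.det ^ 3 ^ k = 1)
    {g₁ g₂ : Γ} {c₁ c₂ : F} (h1 : j g₁ = psi (j a) (j b) (c₁ • P1 ω)) (h2 : j g₂ = psi (j a) (j b) (c₂ • P2 ω))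
    (k1 : ρ g₁ ∈ K) (k2 : ρ g₂ ∈ K) : False := by
  have : Fact (Nat.Prime 3) := ⟨Nat.prime_three⟩
  have P := m.hp h
  obtain ⟨θ, hθ⟩ := B.can0 G 3 M bl D H.hM H.hb H.hD (P.ab_D H hQ)
  have ha : π a ∈ D.map σ := hQ ▸ Subgroup.subset_closure (by simp)
  have hb : π b ∈ D.map σ := hQ ▸ Subgroup.subset_closure (by simp)
  refine B.q8b G M bl D θ H.toTwo hθ (P.card_D H hQ) (P.reg_D H hQ) K ⟨fun α hα => hinv α hα.1, ?_⟩
    (P.trans_D H hQ k1 k2 (hρπ g₁ ▸ m.P1_a h h1) (hρπ g₁ ▸ m.P1_b h h1) (hρπ g₂ ▸ m.P2_a h h2)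
      (hρπ g₂ ▸ m.P2_b h h2))
  intro x hx hc
  obtain ⟨g, y, k, rfl, hy, hd⟩ := hK x hx
  have hc' := Subgroup.mem_centralizer_iff.1 (map_mem_centralizer (π := σ) hc)
  rw [hρπ] at hc'
  obtain ⟨i, l, s, hs, hds⟩ := m.inner h hy (hc' _ ha).symm (hc' _ hb).symm
  have h3 : (a ^ i * b ^ l * g) ^ 3 ^ (k + 1) = 1 := m.inj (by
    rw [map_pow, hs, smul_pow, one_pow, pow_succ', pow_mul, ← hds, hd, one_smul, map_one])
  have h4 : ρ (a ^ i * b ^ l * g) = 1 :=
    H.cpp.eq_one (n := k + 1) (by rw [hρπ, m.one_of_scalar hs]) (by rw [← map_pow, h3, map_one])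
  refine hθ.triv _ ?_
  rw [map_mul, mul_eq_one_iff_inv_eq, map_mul, map_pow, map_pow] at h4
  rw [← h4]
  exact inv_mem (mul_mem (pow_mem (mem_D H hρπ P.a3 ha) i) (pow_mem (mem_D H hρπ P.b3 hb) l))

theorem KK_inv {p : ℕ} [Fact p.Prime] (α : MulAut G) (hα : ∀ x, α x ∈ D ↔ x ∈ D) : ∀ x ∈ KK p D, α x ∈ KK p D := by
  intro x hx
  refine mem_KK_iff.2 fun y hy hr => ?_
  have h1 := mem_KK_iff.1 hx (α.symm y) (Subgroup.mem_centralizer_iff.2 fun d hd => α.injective (by
    rw [map_mul, map_mul, MulEquiv.apply_symm_apply]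
    exact Subgroup.mem_centralizer_iff.1 hy _ ((hα d).2 hd))) (by rwa [MulEquiv.orderOf_eq])
  simpa only [_root_.map_mul, _root_.MulEquiv.apply_symm_apply] using congrArg α h1

variable [Finite Γ]

theorem alg_le_KK (m : MG F j π) (h : Hs (j a) (j b) ω)
    (hQ : D.map σ = Subgroup.closure {π a, π b}) {ρ : Γ →* G} (hρ : Function.Surjective ρ)
    (hρπ : ∀ g, σ (ρ g) = π g) : (Alg h).map ρ ≤ KK 3 D := by
  have : Fact (Nat.Prime 3) := ⟨Nat.prime_three⟩
  have P := m.hp h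
  rintro _ ⟨g, ⟨y, hy⟩, rfl⟩
  refine mem_KK_iff.2 fun x hx hr => ?_
  obtain ⟨c, rfl⟩ := hρ x
  obtain ⟨n, hn, hcn⟩ := exists_reg_lift c hr
  rw [← hcn] at hx ⊢
  have hc' := Subgroup.mem_centralizer_iff.1 (map_mem_centralizer (π := σ) hx)
  rw [hρπ, hQ] at hc'
  have ha := comm_of_coprime P.ker (n := 1) (by rw [pow_one, P.a3]) hn (hc' _ (Subgroup.subset_closure (by simp)))
  have hb := comm_of_coprime P.ker (n := 1) (by rw [pow_one, P.b3]) hn (hc' _ (Subgroup.subset_closure (by simp)))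
  rw [← map_mul, ← map_mul]
  congr 1
  apply m.inj
  rw [map_mul, map_mul, hy]
  exact Hs.comm_psi (by rw [← map_mul, ← ha, map_mul]) (by rw [← map_mul, ← hb, map_mul]) y

theorem KK_le_alg (r : ℕ) [Fact r.Prime] [CharP F r] (m : MG F j π) (h : Hs (j a) (j b) ω)
    (hQ : D.map σ = Subgroup.closure {π a, π b}) (H : Hyp 3 M bl D σ) {ρ : Γ →* G} (hρ : Function.Surjective ρ)
    (hρπ : ∀ g, σ (ρ g) = π g)
    (hT : ∀ k : Γ, (∀ c : Γ, c ^ r = 1 → c * a = a * c → c * b = b * c → k * c = c * k) →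
      ∃ y : Matrix (Fin 3) (Fin 3) F, j k = psi (j a) (j b) y) : KK 3 D ≤ (Alg h).map ρ := by
  have : Fact (Nat.Prime 3) := ⟨Nat.prime_three⟩
  have P := m.hp h
  intro x hx
  obtain ⟨k, rfl⟩ := hρ x
  refine ⟨k, hT k fun c hc ha hb => ?_, rfl⟩
  have h1 : ρ c ∈ Ce D := by
    refine H.cpp.mem_centralizer (isPGroup_defect H.hD) ?_
    rw [hρπ, hQ, Subgroup.centralizer_closure]
    refine Subgroup.mem_centralizer_iff.2 ?_
    rintro _ (rfl | rfl)
    · rw [← map_mul, ← ha, map_mul]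
    · rw [← map_mul, ← hb, map_mul]
  have h2 : ¬ 3 ∣ orderOf (ρ c) := by
    intro h3
    have h4 : 3 ∣ r := h3.trans (orderOf_dvd_of_pow_eq_one (by rw [← map_pow, hc, map_one]))
    have h5 : 3 = r := (Nat.prime_dvd_prime_iff_eq Nat.prime_three Fact.out).1 h4
    subst h5
    exact three_ne h.prim (by exact_mod_cast CharP.cast_eq_zero F 3)
  have h3 : π c * π k = π k * π c := by
    rw [← hρπ, ← hρπ, ← map_mul, mem_KK_iff.1 hx _ h1 h2, map_mul]
  have h4 : ⁅c, k⁆ ^ r = 1 := cent_comm_pow P.ker h3 hc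
  obtain ⟨s, hs⟩ := m.sc _ (P.ker (CentPP.comm_ker h3))
  have h5 : s ^ r = 1 := smul_left_injective F (one_ne_zero (α := R)) (by
    have := congrArg j h4
    rw [map_pow, hs, smul_pow, one_pow, map_one] at this
    simpa using this)
  have h6 : s = 1 := frobenius_inj F r (by rw [frobenius_def, h5, map_one])
  exact (commutatorElement_eq_one_iff_mul_comm.1 (m.inj (by rw [hs, h6, one_smul, map_one]))).symm

/-- **The core, generic case.** -/
theorem core_comm (B : Blk) (r : ℕ) [Fact r.Prime] [CharP F r] (H : Hyp 3 M bl D σ) (m : MG F j π)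
    (h : Hs (j a) (j b) ω) (hQ : D.map σ = Subgroup.closure {π a, π b}) (ρ : Γ →* G) (hρ : Function.Surjective ρ)
    (hρπ : ∀ g, σ (ρ g) = π g)
    (hT : ∀ k : Γ, (∀ c : Γ, c ^ r = 1 → c * a = a * c → c * b = b * c → k * c = c * k) →
      ∃ y : Matrix (Fin 3) (Fin 3) F, j k = psi (j a) (j b) y)
    {g₁ g₂ : Γ} {c₁ c₂ : F} (h1 : j g₁ = psi (j a) (j b) (c₁ • P1 ω)) (h2 : j g₂ = psi (j a) (j b) (c₂ • P2 ω))
    (k1 : g₁ ∈ ⁅Alg h, Alg h⁆) (k2 : g₂ ∈ ⁅Alg h, Alg h⁆) : False := by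
  have : Fact (Nat.Prime 3) := ⟨Nat.prime_three⟩
  have e : KK 3 D = (Alg h).map ρ := le_antisymm (KK_le_alg r m h hQ H hρ hρπ hT) (alg_le_KK m h hQ hρ hρπ)
  have e' : ⁅KK 3 D, KK 3 D⁆ = ⁅Alg h, Alg h⁆.map ρ := by rw [e, Subgroup.map_commutator]
  refine core B H m h hQ ρ hρπ ⁅KK 3 D, KK 3 D⁆ (fun α hα x hx => ?_) (fun x hx => ?_) h1 h2
    (e' ▸ ⟨g₁, k1, rfl⟩) (e' ▸ ⟨g₂, k2, rfl⟩)
  · have h3 : (KK 3 D).map α.toMonoidHom ≤ KK 3 D := by
      rintro _ ⟨x, hx, rfl⟩
      exact KK_inv α hα x hx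
    have h4 := Subgroup.commutator_mono h3 h3
    rw [← Subgroup.map_commutator] at h4
    exact h4 ⟨x, hx, rfl⟩
  · rw [e'] at hx
    obtain ⟨g, hg, rfl⟩ := hx
    obtain ⟨y, hy, hd⟩ := comm_le_Alg1 h hg
    exact ⟨g, y, 0, rfl, hy, by rw [hd, one_pow]⟩

end Core

end MG

end Cfsg.Agent.TO.L2
end

-- part: TO/L2/Lin
section
/-!
# L2: the special linear group
-/

set_option autoImplicit false
set_option linter.unusedSectionVars false

namespace Cfsg.Agent.TO.L2

open Cfsg Matrix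
open scoped commutatorElement

variable {F : Type} [Field F] {n : ℕ}

theorem scalar_of_eig {E h : Matrix (Fin n) (Fin n) F} (hE : h * E = h)
    (hv : ∀ w, ∃ s : F, h *ᵥ w = s • (E *ᵥ w)) : ∃ s : F, h = s • E := by
  by_cases h0 : ∀ w, E *ᵥ w = 0
  · refine ⟨0, ext_of_mulVec_single fun i => ?_⟩
    obtain ⟨s, hs⟩ := hv (Pi.single i 1)
    rw [hs, h0, zero_smul, smul_zero, zero_mulVec]
  push Not at h0
  obtain ⟨w0, h0⟩ := h0
  obtain ⟨s, hs⟩ := hv w0
  refine ⟨s, ext_of_mulVec_single fun i => ?_⟩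
  rw [smul_mulVec]
  generalize (Pi.single i 1 : Fin n → F) = w
  obtain ⟨t, ht⟩ := hv w
  obtain ⟨u, hu⟩ := hv (w + w0)
  rw [mulVec_add, mulVec_add, ht, hs] at hu
  have h1 : (t - u) • (E *ᵥ w) = (u - s) • (E *ᵥ w0) := by
    rw [sub_smul, sub_smul, sub_eq_sub_iff_add_eq_add, hu, smul_add, add_comm]
  by_cases htu : t = u
  · rw [htu, sub_self, zero_smul, eq_comm, smul_eq_zero, sub_eq_zero] at h1
    rw [ht, htu, h1.resolve_right h0]
  · have h2 : E *ᵥ w = ((t - u)⁻¹ * (u - s)) • (E *ᵥ w0) := by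
      rw [mul_smul, ← h1, inv_smul_smul₀ (sub_ne_zero.2 htu)]
    rw [← hE, ← mulVec_mulVec, h2, mulVec_smul, mulVec_mulVec, hE, hs, smul_comm]

theorem eig_of_comm {E h : Matrix (Fin n) (Fin n) F} (hEE : E * E = E) (hE : E * h = h)
    (hc : ∀ v f : Fin n → F, E *ᵥ v = v → f ᵥ* E = f → f ⬝ᵥ v = 0 → h * vecMulVec v f = vecMulVec v f * h)
    {v : Fin n → F} (hv : E *ᵥ v = v) : ∃ s : F, h *ᵥ v = s • v := by
  by_contra hn
  have h1 : h *ᵥ v ∉ Submodule.span F {v} := fun hm => by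
    obtain ⟨s, hs⟩ := Submodule.mem_span_singleton.1 hm
    exact hn ⟨s, hs.symm⟩
  obtain ⟨φ, h2, h3⟩ := Submodule.exists_dual_map_eq_bot_of_notMem h1 inferInstance
  have h4 : φ v = 0 := by
    have : φ v ∈ (Submodule.span F {v}).map φ := ⟨v, Submodule.mem_span_singleton_self v, rfl⟩
    rwa [h3] at this
  have h5 : ∀ x, (fun i => φ (Pi.single i 1)) ⬝ᵥ x = φ x := fun x => by
    rw [LinearMap.pi_apply_eq_sum_univ φ x, dotProduct]
    refine Finset.sum_congr rfl fun i _ => ?_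
    rw [smul_eq_mul, mul_comm]
    congr 2
    ext j
    simp [Pi.single_apply, eq_comm]
  have h6 : ∀ x, ((fun i => φ (Pi.single i 1)) ᵥ* E) ⬝ᵥ x = φ (E *ᵥ x) := fun x => by
    rw [← dotProduct_mulVec, h5]
  have h7 := congrArg (· *ᵥ v) (hc v ((fun i => φ (Pi.single i 1)) ᵥ* E) hv (by rw [vecMul_vecMul, hEE])
    (by rw [h6, hv, h4]))
  simp only [← mulVec_mulVec, vecMulVec_mulVec, h6, hv, h4] at h7
  rw [mulVec_mulVec, hE] at h7
  simp only [MulOpposite.op_zero, zero_smul, mulVec_zero, op_smul_eq_smul] at h7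
  have h8 : v = 0 := (smul_eq_zero.1 h7.symm).resolve_left h2
  exact hn ⟨0, by rw [h8, mulVec_zero, smul_zero]⟩

theorem one_add_pow_sq_zero {R : Type*} [Ring R] {x : R} (hx : x * x = 0) (k : ℕ) : (1 + x) ^ k = 1 + k • x := by
  induction k with
  | zero => simp
  | succ k ih => rw [pow_succ, ih, add_mul, one_mul, mul_add, mul_one, smul_mul_assoc, hx, smul_zero, add_zero,
      succ_nsmul, add_assoc, add_comm x]

theorem unip_pow (r : ℕ) [CharP F r] {x : Matrix (Fin n) (Fin n) F} (hx : x * x = 0) : (1 + x) ^ r = 1 := by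
  rw [one_add_pow_sq_zero hx, ← Nat.cast_smul_eq_nsmul F, CharP.cast_eq_zero, zero_smul, add_zero]

theorem unip_det (r : ℕ) [Fact r.Prime] [CharP F r] {x : Matrix (Fin n) (Fin n) F} (hx : x * x = 0) :
    (1 + x).det = 1 :=
  frobenius_inj F r (by rw [frobenius_def, ← det_pow, unip_pow r hx, det_one, map_one])

/-- the inclusion -/
abbrev jL (n : ℕ) (F : Type) [Field F] : _root_.Matrix.SpecialLinearGroup (Fin n) F →* Matrix (Fin n) (Fin n) F :=
  SpecialLinearGroup.coeMonoidHom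

/-- the projection -/
abbrev pL (n : ℕ) (F : Type) [Field F] : _root_.Matrix.SpecialLinearGroup (Fin n) F →* ProjectiveSpecialLinearGroup (Fin n) F :=
  QuotientGroup.mk' (Subgroup.center _)

theorem mgL : MG F (jL n F) (pL n F) where
  inj := SpecialLinearGroup.coeMonoidHom_injective
  surj := QuotientGroup.mk'_surjective _
  ker := fun g => QuotientGroup.eq_one_iff g
  sc := fun g hg => by
    obtain ⟨r, -, hr⟩ := Matrix.SpecialLinearGroup.mem_center_iff.1 hg
    exact ⟨r, by rw [smul_one_eq_diagonal, ← scalar_apply, hr]; rfl⟩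

variable {a b : _root_.Matrix.SpecialLinearGroup (Fin n) F} {ω : F}

/-- the double centralizer -/
theorem hTL (r : ℕ) [Fact r.Prime] [CharP F r] (h : Hs (jL n F a) (jL n F b) ω) (k : _root_.Matrix.SpecialLinearGroup (Fin n) F)
    (hk : ∀ c : _root_.Matrix.SpecialLinearGroup (Fin n) F, c ^ r = 1 → c * a = a * c → c * b = b * c → k * c = c * k) :
    ∃ y : Matrix (Fin 3) (Fin 3) F, jL n F k = psi (jL n F a) (jL n F b) y := by
  refine h.mem_of_blocks fun i j => scalar_of_eig (h.blk_e _ i j) fun w => ?_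
  rw [← h.blk_e, ← mulVec_mulVec]
  refine eig_of_comm h.e_e (h.e_blk _ i j) (fun v f hv hf hfv => ?_) (by rw [mulVec_mulVec, h.e_e])
  have h1 : e F (jL n F a) * vecMulVec v f = vecMulVec v f := by rw [mul_vecMulVec, hv]
  have h2 : vecMulVec v f * e F (jL n F a) = vecMulVec v f := by rw [vecMulVec_mul, hf]
  have h3 : hat F (jL n F a) (jL n F b) (vecMulVec v f) * hat F (jL n F a) (jL n F b) (vecMulVec v f) = 0 := by
    rw [h.hat_mul, h2, vecMulVec_mul_vecMulVec, hfv, zero_smul, vecMulVec_zero, Hs.hat_zero]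
  have h4 := congrArg Subtype.val (hk ⟨_, unip_det r h3⟩ (Subtype.ext (unip_pow r h3))
    (Subtype.ext (by
      change (1 + _) * jL n F a = jL n F a * (1 + _)
      rw [add_mul, mul_add, h.hat_a, one_mul, mul_one]))
    (Subtype.ext (by
      change (1 + _) * jL n F b = jL n F b * (1 + _)
      rw [add_mul, mul_add, h.hat_b, one_mul, mul_one])))
  change jL n F k * (1 + _) = (1 + _) * jL n F k at h4
  rw [add_mul, mul_add, one_mul, mul_one, add_right_inj] at h4
  exact h.blk_comm h1 h2 h4 i j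

theorem det_psi (h : Hs (jL n F a) (jL n F b) ω) (s : _root_.Matrix.SpecialLinearGroup (Fin 3) F) :
    (psi (jL n F a) (jL n F b) s.1).det = 1 := by
  let f : _root_.Matrix.SpecialLinearGroup (Fin 3) F →* Fˣ :=
    ((detMonoidHom.comp (h.psiH : Matrix (Fin 3) (Fin 3) F →* Matrix (Fin n) (Fin n) F)).comp (jL 3 F)).toHomUnits
  have h1 : commutator (_root_.Matrix.SpecialLinearGroup (Fin 3) F) ≤ f.ker := Abelianization.commutator_subset_ker f
  rw [S0248.result 3 le_rfl] at h1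
  exact congrArg Units.val (h1 (Subgroup.mem_top s))

/-- the embedding of `SL₃` -/
def iota (h : Hs (jL n F a) (jL n F b) ω) : _root_.Matrix.SpecialLinearGroup (Fin 3) F →* _root_.Matrix.SpecialLinearGroup (Fin n) F where
  toFun s := ⟨psi (jL n F a) (jL n F b) s.1, det_psi h s⟩
  map_one' := Subtype.ext h.psi_one
  map_mul' s t := Subtype.ext (h.psi_mul s.1 t.1)

theorem iota_mem [Finite F] (h : Hs (jL n F a) (jL n F b) ω) (s : _root_.Matrix.SpecialLinearGroup (Fin 3) F) :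
    iota h s ∈ ⁅Alg h, Alg h⁆ := by
  have h1 : (⊤ : Subgroup (_root_.Matrix.SpecialLinearGroup (Fin 3) F)).map (iota h) ≤ Alg h := by
    rintro _ ⟨t, -, rfl⟩
    exact ⟨t.1, rfl⟩
  have h2 := Subgroup.commutator_mono h1 h1
  rw [← Subgroup.map_commutator, ← commutator_def, S0248.result 3 le_rfl] at h2
  exact h2 ⟨s, trivial, rfl⟩

theorem three_dvd (h : Hs (jL n F a) (jL n F b) ω) : 3 ∣ n := by
  have h1 := congrArg det h.comm
  rw [det_smul, ← map_mul, ← map_mul, Fintype.card_fin] at h1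
  change (a * b).1.det = ω ^ n * (b * a).1.det at h1
  rw [(a * b).2, (b * a).2, mul_one] at h1
  exact (h.prim.pow_eq_one_iff_dvd n).1 h1.symm

end Cfsg.Agent.TO.L2
end

-- part: TO/L2/Small
section
/-!
# The case in which the algebra of the pair is everything
-/

set_option autoImplicit false
set_option linter.unusedSectionVars false

namespace Cfsg.Agent.TO.L2

open Cfsg Cfsg.Agent.BHZ.Nil

section

variable {G : Type} [Group G] {D : Subgroup G} {θ : G → ℂ}

theorem mem_In_iff {t : G} : t ∈ In D θ ↔ (∀ x, t * x * t⁻¹ ∈ D ↔ x ∈ D) ∧ ∀ g, θ (t * g * t⁻¹) = θ g := Iff.rfl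

theorem In_le : In D θ ≤ Subgroup.normalizer (D : Set G) := fun _ ht =>
  Subgroup.mem_normalizer_iff.2 fun x => ((mem_In_iff.1 ht).1 x).symm

theorem conj_mem_Ce {t c : G} (ht : t ∈ Subgroup.normalizer (D : Set G)) (hc : c ∈ Ce D) : t * c * t⁻¹ ∈ Ce D := by
  refine Subgroup.mem_centralizer_iff.2 fun d hd => ?_
  have h1 := Subgroup.mem_centralizer_iff.1 hc _ ((Subgroup.mem_normalizer_iff.1 (inv_mem ht) d).1 hd)
  calc d * (t * c * t⁻¹) = t * (t⁻¹ * d * t⁻¹⁻¹ * c) * t⁻¹ := by group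
    _ = _ := by rw [h1]; group

theorem mem_Ce_of_pow {p : ℕ} (hp : p.Prime) (hi : ¬ p ∣ (Ce D).relIndex (In D θ)) {t : G} (ht : t ∈ In D θ)
    (h : t ^ p ∈ Ce D) : t ∈ Ce D := by
  have : ((Ce D).subgroupOf (In D θ)).Normal := ⟨fun c hc s => conj_mem_Ce (In_le s.2) hc⟩
  have h1 : (QuotientGroup.mk ⟨t, ht⟩ : In D θ ⧸ (Ce D).subgroupOf (In D θ)) ^ p = 1 := by
    rw [← QuotientGroup.mk_pow, QuotientGroup.eq_one_iff]
    exact h
  have h2 : (QuotientGroup.mk ⟨t, ht⟩ : In D θ ⧸ (Ce D).subgroupOf (In D θ)) ^ (Ce D).relIndex (In D θ) = 1 :=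
    pow_card_eq_one'
  have h3 := pow_gcd_eq_one.2 ⟨h1, h2⟩
  rw [(hp.coprime_iff_not_dvd.2 hi).gcd_eq_one, pow_one, QuotientGroup.eq_one_iff] at h3
  exact h3

/-- if `C(D) = D Z(G)` then the inertia group is the normalizer -/
theorem le_In {p : ℕ} {M : Ideal AlgInt} {bl : Set (IrrCharacter G)} (hθ : Can p M bl D θ) (hP : CanP p M bl D θ)
    (hC : ∀ c ∈ Ce D, ∃ d ∈ D, ∃ z ∈ Subgroup.center G, c = d * z) : Subgroup.normalizer (D : Set G) ≤ In D θ := by
  intro t ht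
  refine mem_In_iff.2 ⟨fun x => (Subgroup.mem_normalizer_iff.1 ht x).symm, fun g => ?_⟩
  by_cases hg : g ∈ Ce D
  · obtain ⟨d, hd, z, hz, rfl⟩ := hC g hg
    have h1 : t * (d * z) * t⁻¹ = t * d * t⁻¹ * z := by
      rw [mul_assoc _ t⁻¹, Subgroup.mem_center_iff.1 hz t⁻¹]
      group
    rw [h1, hP.mul _ ((Subgroup.mem_normalizer_iff.1 ht d).1 hd), hP.mul _ hd]
  · rw [hθ.zero g hg, hθ.zero _ fun h => hg ?_]
    have := conj_mem_Ce (inv_mem ht) h
    rwa [show t⁻¹ * (t * g * t⁻¹) * t⁻¹⁻¹ = g by group] at this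

end

variable {F : Type*} [Field F] {R : Type*} [Ring R] [Algebra F R] [Nontrivial R] {Γ : Type*} [Group Γ]
  {j : Γ →* R} {a b : Γ} {ω : F} {G X : Type} [Group G] [Finite G] [Group X] {π : Γ →* X} {σ : G →* X}
  {M : Ideal AlgInt} {bl : Set (IrrCharacter G)} {D : Subgroup G}

/-- **The core without a cover.** -/
theorem MG.core_small (B : Blk) (H : Hyp 3 M bl D σ) (m : MG F j π) (h : Hs (j a) (j b) ω)
    (hQ : D.map σ = Subgroup.closure {π a, π b})
    (hall : ∀ g : Γ, ∃ y : Matrix (Fin 3) (Fin 3) F, j g = psi (j a) (j b) y)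
    {g₁ g₂ : Γ} {c₁ c₂ : F} (h1 : j g₁ = psi (j a) (j b) (c₁ • P1 ω)) (h2 : j g₂ = psi (j a) (j b) (c₂ • P2 ω))
    (hO : (Inn X).index ∣ 12) (h6 : ∀ β : MulAut X, β ^ 6 ∈ Inn X) : False := by
  have : Fact (Nat.Prime 3) := ⟨Nat.prime_three⟩
  have P := m.hp h
  obtain ⟨θ, hθ⟩ := B.can0 G 3 M bl D H.hM H.hb H.hD (P.ab_D H hQ)
  have hP := B.can1 G 3 M bl D θ hθ
  have ha : π a ∈ D.map σ := hQ ▸ Subgroup.subset_closure (by simp)
  have hb : π b ∈ D.map σ := hQ ▸ Subgroup.subset_closure (by simp)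
  have hN := le_In hθ hP fun c hc => by
    obtain ⟨g, hg⟩ := m.surj (σ c)
    obtain ⟨y, hy⟩ := hall g
    have hc' := Subgroup.mem_centralizer_iff.1 (map_mem_centralizer (π := σ) hc)
    rw [← hg] at hc'
    obtain ⟨i, l, s, hs, -⟩ := m.inner h hy (hc' _ ha).symm (hc' _ hb).symm
    have h3 := m.one_of_scalar hs
    rw [map_mul, mul_eq_one_iff_inv_eq, map_mul, map_pow, map_pow, hg] at h3
    obtain ⟨d, hd, hdc⟩ : σ c ∈ D.map σ := h3 ▸ inv_mem (mul_mem (pow_mem ha i) (pow_mem hb l))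
    refine ⟨d, hd, d⁻¹ * c, ?_, by group⟩
    rw [← H.ker, MonoidHom.mem_ker, map_mul, map_inv, hdc, inv_mul_cancel]
  obtain ⟨t₁, e₁⟩ := H.surj (π g₁)
  obtain ⟨t₂, e₂⟩ := H.surj (π g₂)
  have : (Inn X).Normal := ⟨by
    rintro _ ⟨x, rfl⟩ β
    exact ⟨β x, by ext y; simp only [_root_.MulAut.conj_apply, _root_.MulAut.mul_apply, _root_.MulAut.inv_apply, _root_.map_mul, _root_.MulEquiv.apply_symm_apply, _root_.map_inv]⟩⟩
  refine B.q8c G M bl D θ X σ H hθ (P.card_D H hQ) ⟨fun u hu v hv hu1 hv1 => ?_, fun t ht u hu hu1 htu => ?_⟩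
    ((Subgroup.relIndex_dvd_index_of_normal _ _).trans hO) fun β _ => h6 β
  · obtain ⟨t, -, ht, he⟩ := P.trans_D H hQ (T := ⊤) (t₁ := t₁) (t₂ := t₂) trivial trivial (e₁ ▸ m.P1_a h h1)
      (e₁ ▸ m.P1_b h h1) (e₂ ▸ m.P2_a h h2) (e₂ ▸ m.P2_b h h2) u hu v hv hu1 hv1
    exact ⟨t, hN ht, he⟩
  · exact mem_Ce_of_pow Nat.prime_three hP.idx ht (P.cube_D H hQ (In_le ht) hu hu1 htu)

end Cfsg.Agent.TO.L2
end

-- part: TO/L2/Main
section
/-!
# The box L2
-/

set_option autoImplicit false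
set_option linter.unusedSectionVars false

namespace Cfsg.Agent.TO.L2

open Cfsg Matrix

variable {F : Type} [Field F] [Fintype F] {n : ℕ}

theorem perf_X (hn : 3 ≤ n) : commutator (ProjectiveSpecialLinearGroup (Fin n) F) = ⊤ := by
  have h1 := map_commutator_eq _ (pL n F)
  rw [S0248.result n hn, ← MonoidHom.range_eq_map, MonoidHom.range_eq_top.2 mgL.surj] at h1
  rw [commutator_def]
  exact h1.symm

theorem exists_rho (hn : 3 ≤ n)
    (hexc : (n, Fintype.card F) ∉ ({(2, 4), (2, 9), (3, 2), (3, 4), (4, 2)} : Set (ℕ × ℕ)))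
    {G : Type} [Group G] [Finite G] {σ : G →* ProjectiveSpecialLinearGroup (Fin n) F} (hG : commutator G = ⊤)
    (hs : Function.Surjective σ) (hc : σ.ker ≤ Subgroup.center G) :
    ∃ ρ : _root_.Matrix.SpecialLinearGroup (Fin n) F →* G, Function.Surjective ρ ∧ ∀ g, σ (ρ g) = pL n F g := by
  have : NeZero (Nat.gcd n (Fintype.card F - 1)) := ⟨(Nat.gcd_pos_of_pos_left _ (by omega)).ne'⟩
  refine H95.StemCover.exists_cover' (perf_X hn) (S2086.result rfl n (by omega) (by omega) hexc) (pL n F)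
    (H95.StemCover.isStem (S0248.result n hn) mgL.surj (QuotientGroup.ker_mk' _).le) ?_ hG σ hs hc
  rw [QuotientGroup.ker_mk', H93.PslCharpoly.card_center n (by omega), Nat.card_congr Multiplicative.toAdd,
    Nat.card_zmod, Nat.card_eq_fintype_card]

theorem out_L34 (hF : Fintype.card F = 4) : (Inn (ProjectiveSpecialLinearGroup (Fin 3) F)).index = 12 := by
  have hs := S0249.result (F := F) 3 le_rfl
  have hc : Subgroup.center (ProjectiveSpecialLinearGroup (Fin 3) F) = ⊥ := by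
    refine (hs.eq_bot_or_eq_top_of_normal _ inferInstance).resolve_right fun h => ?_
    have h1 := (commutator_eq_bot_iff_center_eq_top _).2 h
    rw [perf_X le_rfl] at h1
    exact top_ne_bot h1
  have h1 := S0813.result 2 2 (by norm_num) (F := F) hF 3 (by norm_num) (by norm_num)
  have h2 : Nat.card (_root_.Matrix.SpecialLinearGroup (Fin 3) F) = Nat.card (ProjectiveSpecialLinearGroup (Fin 3) F) *
      Nat.card (Subgroup.center (_root_.Matrix.SpecialLinearGroup (Fin 3) F)) :=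
    Subgroup.card_eq_card_quotient_mul_card_subgroup _
  rw [H93.PslCharpoly.card_center 3 (by norm_num), Nat.card_eq_fintype_card (α := F), hF] at h2
  rw [S0265.result, h2] at h1
  have h3 : Nat.card (Inn (ProjectiveSpecialLinearGroup (Fin 3) F)) =
      Nat.card (ProjectiveSpecialLinearGroup (Fin 3) F) :=
    (Nat.card_congr (MonoidHom.ofInjective ((MonoidHom.ker_eq_bot_iff _).1 (by
      rw [eq_bot_iff, ← hc]
      intro x hx
      refine Subgroup.mem_center_iff.2 fun y => ?_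
      have h4 : x * y * x⁻¹ = y := congrArg (fun f : MulAut _ => f y) (MonoidHom.mem_ker.1 hx)
      rw [← mul_inv_eq_iff_eq_mul.1 h4]))).toEquiv).symm
  have h4 := (Inn (ProjectiveSpecialLinearGroup (Fin 3) F)).card_mul_index
  rw [h3, h1] at h4
  refine Nat.eq_of_mul_eq_mul_left (Nat.card_pos (α := ProjectiveSpecialLinearGroup (Fin 3) F)) ?_
  rw [h4]
  norm_num only [_root_.ite_false]
  ring

open H199.PslAut in
theorem six_L34 (hF : Fintype.card F = 4) (β : MulAut (ProjectiveSpecialLinearGroup (Fin 3) F)) :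
    β ^ 6 ∈ Inn (ProjectiveSpecialLinearGroup (Fin 3) F) := by
  have hσ : ∀ σ : F ≃+* F, σ * σ = 1 := by
    intro σ
    ext x
    change σ (σ x) = x
    have hx : x ^ 4 = x := by rw [← hF]; exact FiniteField.pow_card x
    by_cases h : σ x = x
    · rw [h, h]
    have h0 : x ≠ 0 := fun h0 => h (by rw [h0, map_zero])
    have h1 : x - 1 ≠ 0 := fun h1 => h (by rw [sub_eq_zero.1 h1, map_one])
    have h2 : x ^ 2 + x + 1 = 0 := mul_left_cancel₀ (mul_ne_zero h0 h1) (by linear_combination hx)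
    have h3 := congrArg σ h2
    rw [map_add, map_add, map_pow, map_one, map_zero] at h3
    have h4 : σ x + x + 1 = 0 := mul_left_cancel₀ (sub_ne_zero.2 h) (by linear_combination h3 - h2)
    have h5 := congrArg σ h4
    rw [map_add, map_add, map_one, map_zero] at h5
    linear_combination h5 - h4
  have h3 : ∀ g : GL (Fin 3) F, Psi 3 F g ^ 3 ∈ Inn (ProjectiveSpecialLinearGroup (Fin 3) F) := by
    intro g
    have hd : ((g ^ 3 : GL (Fin 3) F) : Matrix (Fin 3) (Fin 3) F).det = 1 := by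
      rw [Units.val_pow_eq_pow_val, det_pow]
      have := FiniteField.pow_card_sub_one_eq_one _ g.det_ne_zero
      rwa [hF] at this
    rw [← map_pow, Inn_eq]
    exact ⟨g ^ 3, ⟨⟨_, hd⟩, Units.ext rfl⟩, rfl⟩
  rw [show β ^ 6 = (β * β) ^ 3 by rw [← pow_two, ← pow_mul]]
  rcases exists_form (by norm_num) β with ⟨g, σ, rfl⟩ | ⟨-, g, σ, rfl⟩
  · have : Psi 3 F g * phi 3 F σ * (Psi 3 F g * phi 3 F σ) = Psi 3 F (g * mapGL σ g) := by
      rw [mul_assoc, ← mul_assoc (phi 3 F σ), phi_mul_Psi, mul_assoc, ← map_mul, hσ, map_one, mul_one, map_mul]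
    rw [this]
    exact h3 _
  · have : Psi 3 F g * phi 3 F σ * iot 3 F * (Psi 3 F g * phi 3 F σ * iot 3 F) =
        Psi 3 F (g * mapGL σ (itGL g)) := by
      calc _ = Psi 3 F g * (phi 3 F σ * (iot 3 F * Psi 3 F g)) * (phi 3 F σ * iot 3 F) := by simp only [mul_assoc]
        _ = Psi 3 F g * (phi 3 F σ * Psi 3 F (itGL g)) * (iot 3 F * phi 3 F σ) * iot 3 F := by
          rw [iot_mul_Psi]; simp only [mul_assoc]
        _ = Psi 3 F g * Psi 3 F (mapGL σ (itGL g)) * (phi 3 F σ * phi 3 F σ) * (iot 3 F * iot 3 F) := by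
          rw [phi_mul_Psi, iot_mul_phi]; simp only [mul_assoc]
        _ = _ := by rw [iot_mul_iot, ← map_mul (phi 3 F), hσ, map_one, mul_one, mul_one, map_mul]
    rw [this]
    exact h3 _

end Cfsg.Agent.TO.L2

namespace Cfsg.Agent.TO

open Cfsg Matrix L2

/-- **[L2]** -/
theorem boxL2 (B : Blk) : BoxL2 := by
  rintro F _ _ n hn G _ _ σ M bl D H ⟨a, b, ω, h0, -, -, hQ⟩
  have h : Hs (jL n F a) (jL n F b) ω := hs_of_heis h0
  have : Nonempty (Fin n) := ⟨⟨0, by omega⟩⟩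
  have h3 := three_dvd h
  have hq : 3 ∣ Fintype.card F - 1 :=
    (h.prim.pow_eq_one_iff_dvd _).1 (FiniteField.pow_card_sub_one_eq_one ω (w0 h.prim))
  have h1 : jL n F (iota h ⟨_, det_P1 h.prim⟩) = psi (jL n F a) (jL n F b) ((ω - ω ^ 2)⁻¹ • P1 ω) := rfl
  have h2 : jL n F (iota h ⟨_, det_P2 h.prim⟩) = psi (jL n F a) (jL n F b) ((ω - ω ^ 2)⁻¹ • P2 ω) := rfl
  by_cases h34 : n = 3 ∧ Fintype.card F = 4
  · obtain ⟨rfl, hF⟩ := h34
    refine mgL.core_small B H h hQ (fun g => ?_) h1 h2 (by rw [out_L34 hF]) (six_L34 hF)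
    obtain ⟨y, hy⟩ := (LinearMap.injective_iff_surjective (f := h.psiH.toLinearMap)).1 h.psi_inj (jL 3 F g)
    exact ⟨y, hy.symm⟩
  · obtain ⟨ρ, hρ, hρπ⟩ := exists_rho (F := F) (n := n) (by omega) (by
      simp only [Set.mem_insert_iff, Set.mem_singleton_iff, Prod.mk.injEq]
      omega) H.perf H.surj H.ker.le
    have : Fact (ringChar F).Prime := ⟨CharP.char_is_prime F _⟩
    exact mgL.core_comm B (ringChar F) H h hQ ρ hρ hρπ (hTL (ringChar F) h) h1 h2 (iota_mem h _) (iota_mem h _)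

end Cfsg.Agent.TO
end

private theorem dce_fbb0c5d5fafe : _root_.True := by
  try have : _root_.True := by simp only [_root_.Cfsg.Agent.TO.L2.mB.eq_1]
  try have : _root_.True := by simp only [_root_.Cfsg.Agent.TO.L2.mA.eq_1]
  try have : _root_.True := by simp only [_root_.Matrix.ProjectiveSpecialLinearGroup.congr_simp]
  try have : _root_.True := by simp only [_root_.Cfsg.Agent.TO.L2.psi.eq_1]
  try have : _root_.True := by simp only [_root_.Cfsg.Agent.TO.L2.Hs.psiH.congr_simp]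
  try have : _root_.True := by simp only [_root_.Cfsg.Agent.TO.L2.e.eq_1]
  try have : _root_.True := by simp only [_root_.Cfsg.Agent.TO.L2.U.eq_1]
  try have : _root_.True := by simp only [_root_.Cfsg.Agent.TO.L2.P2.eq_1]
  try have : _root_.True := by simp only [_root_.Cfsg.Agent.TO.L2.blk.eq_1]
  try have : _root_.True := by simp only [_root_.Cfsg.Agent.TO.L2.P1.eq_1]
  try have : _root_.True := by simp only [_root_.Cfsg.Agent.TO.L2.hat.eq_1]
  try have : _root_.True := by simp only [_root_.Cfsg.Agent.TO.L2.V.eq_1]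
  exact _root_.True.intro
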